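import Cfsg.Agent.Lib.CyclicSylowInter.Noncentral.OneFamily
import Mathlib.Algebra.Order.Chebyshev

/-!
# The noncentral branch: one family in each Sylow subgroup gives too large a quadrangle

The conjugates of `t`, joined when they commute, form the dual of a generalised quadrangle of order
`(s, q - 1)`; Higman's inequality says `s ≤ (q - 1) ^ 2`.
-/

set_option autoImplicit false
set_option linter.style.haveILetI false
set_option linter.unusedSectionVars false

namespace Cfsg.Agent.CyclicSylowInter.Noncentral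

open Subgroup
open scoped Pointwise
open Cfsg.Agent.ZStar.CyclicIntersections

universe u

section Higman

open Finset

/-- Higman's inequality. -/
theorem higman {V : Type*} [Finite V] [Nonempty V] (R : V → V → Prop)
    (symm : ∀ a b, R a b → R b a) (irr : ∀ a, ¬ R a a) (s q : ℕ)
    (hdeg : ∀ a, Nat.card {b // R a b} = (s + 1) * (q - 1))
    (hadj : ∀ a b, R a b → Nat.card {c // R a c ∧ R b c} = q - 2)
    (hnon : ∀ a b, a ≠ b → ¬ R a b → Nat.card {c // R a c ∧ R b c} = s + 1)
    (hv : Nat.card V = q * (1 + s * (q - 1)))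
    (hind : ∀ l m a b, l ≠ m → ¬ R l m → R l a → R m a → R l b → R m b → ¬ R a b)
    (hq : 3 ≤ q) (hs : (q - 1) * (q - 1) < s) : False := by
  classical
  haveI := Fintype.ofFinite V
  simp only [Nat.card_eq_fintype_card, Fintype.card_subtype] at hdeg hadj hnon hv
  obtain ⟨T, rfl⟩ : ∃ T, q = T + 1 := ⟨q - 1, by omega⟩
  simp only [Nat.add_sub_cancel, show T + 1 - 2 = T - 1 by omega] at hdeg hadj hs hv
  obtain ⟨l₀⟩ := ‹Nonempty V›
  obtain ⟨l, m, hne, hlm⟩ : ∃ l m, l ≠ m ∧ ¬ R l m := by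
    by_contra! h
    have h1 : (univ : Finset V) ⊆ insert l₀ (univ.filter fun b => R l₀ b) := fun b _ => by
      rcases eq_or_ne l₀ b with rfl | hb
      · exact mem_insert_self _ _
      · exact mem_insert_of_mem (mem_filter.2 ⟨mem_univ _, h l₀ b hb⟩)
    have h2 := (card_le_card h1).trans (card_insert_le _ _)
    rw [card_univ, hv, hdeg] at h2
    nlinarith
  set N : V → Finset V := fun a => univ.filter fun b => R a b with hNd
  set C := univ.filter fun c => R l c ∧ R m c with hC
  set D := univ.filter fun n => n ≠ l ∧ n ≠ m ∧ ¬ R l n ∧ ¬ R m n with hD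
  have hCc : C.card = s + 1 := hnon l m hne hlm
  -- the common non-neighbours
  have hDc : D.card + 2 + 2 * ((s + 1) * T) = (T + 1) * (1 + s * T) + (s + 1) := by
    have h1 : (univ : Finset V) \ D = {l, m} ∪ (N l ∪ N m) := by
      ext n; simp only [hD, hNd, mem_sdiff, mem_univ, mem_filter, mem_union, mem_insert,
        mem_singleton, true_and]; tauto
    have h2 : Disjoint ({l, m} : Finset V) (N l ∪ N m) := by
      rw [disjoint_left]
      intro n hn hn'
      simp only [hNd, mem_union, mem_filter, mem_univ, true_and] at hn'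
      simp only [mem_insert, mem_singleton] at hn
      rcases hn with rfl | rfl <;> rcases hn' with h | h
      exacts [irr _ h, hlm (symm _ _ h), hlm h, irr _ h]
    have h3 := card_sdiff_add_card_eq_card (subset_univ D)
    rw [h1, card_union_of_disjoint h2, card_pair hne, card_univ, hv] at h3
    have h4 := card_union_add_card_inter (N l) (N m)
    rw [show N l ∩ N m = C from (filter_and _ _ _).symm, hCc,
      show (N l).card = _ from hdeg l, show (N m).card = _ from hdeg m] at h4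
    omega
  -- one member
  have hone : ∀ a ∈ C, (D.filter fun n => R n a).card + 2 * T = (s + 1) * T := by
    intro a ha
    obtain ⟨hla, hma⟩ := (mem_filter.1 ha).2
    have h1 : (univ.filter fun b => R a b) = D.filter (fun n => R n a) ∪ ({l, m} ∪
        ((univ.filter fun c => R a c ∧ R l c) ∪ (univ.filter fun c => R a c ∧ R m c))) := by
      ext n
      simp only [hD, mem_filter, mem_univ, true_and, mem_union, mem_insert, mem_singleton]
      constructor
      · intro h
        by_cases h1 : n = l <;> by_cases h2 : n = m <;> by_cases h3 : R l n <;> by_cases h4 : R m n <;>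
          simp_all [symm a n h]
      · rintro (⟨-, h⟩ | (rfl | rfl) | h | h)
        exacts [symm _ _ h, symm _ _ hla, symm _ _ hma, h.1, h.1]
    have h2 := hdeg a
    rw [h1, card_union_of_disjoint, card_union_of_disjoint, card_pair hne,
      card_union_of_disjoint, hadj a l (symm _ _ hla), hadj a m (symm _ _ hma)] at h2
    · omega
    · rw [disjoint_left]
      intro n hn hn'
      simp only [mem_filter, mem_univ, true_and] at hn hn'
      exact hind l m a n hne hlm hla hma hn.2 hn'.2 hn.1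
    · rw [disjoint_left]
      intro n hn hn'
      simp only [mem_filter, mem_univ, true_and, mem_union, mem_insert, mem_singleton] at hn hn'
      rcases hn with rfl | rfl <;> rcases hn' with h | h
      exacts [irr _ h.2, hlm (symm _ _ h.2), hlm h.2, irr _ h.2]
    · rw [disjoint_left]
      intro n hn hn'
      simp only [hD, mem_filter, mem_univ, true_and, mem_union, mem_insert, mem_singleton] at hn hn'
      tauto
  -- two members
  have htwo : ∀ p ∈ C.offDiag, (D.filter fun n => R n p.1 ∧ R n p.2).card + 2 = s + 1 := by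
    rintro ⟨a, b⟩ hp
    obtain ⟨ha, hb, hab⟩ := mem_offDiag.1 hp
    obtain ⟨hla, hma⟩ := (mem_filter.1 ha).2
    obtain ⟨hlb, hmb⟩ := (mem_filter.1 hb).2
    have hnab := hind l m a b hne hlm hla hma hlb hmb
    have h1 : (univ.filter fun c => R a c ∧ R b c) =
        D.filter (fun n => R n a ∧ R n b) ∪ {l, m} := by
      ext n
      simp only [hD, mem_filter, mem_univ, true_and, mem_union, mem_insert, mem_singleton]
      constructor
      · rintro ⟨h1, h2⟩
        by_cases hl : n = l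
        · exact Or.inr (Or.inl hl)
        by_cases hm : n = m
        · exact Or.inr (Or.inr hm)
        exact Or.inl ⟨⟨hl, hm,
          hind a b l n hab hnab (symm _ _ hla) (symm _ _ hlb) h1 h2,
          hind a b m n hab hnab (symm _ _ hma) (symm _ _ hmb) h1 h2⟩, symm _ _ h1, symm _ _ h2⟩
      · rintro (⟨-, h1, h2⟩ | rfl | rfl)
        exacts [⟨symm _ _ h1, symm _ _ h2⟩, ⟨symm _ _ hla, symm _ _ hlb⟩,
          ⟨symm _ _ hma, symm _ _ hmb⟩]
    have h2 := hnon a b hab hnab
    rw [h1, card_union_of_disjoint, card_pair hne] at h2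
    · exact h2
    · rw [disjoint_left]
      intro n hn hn'
      simp only [hD, mem_filter, mem_univ, true_and, mem_insert, mem_singleton] at hn hn'
      tauto
  set u : V → ℕ := fun n => (C.filter fun a => R n a).card with hu
  have hsum : ∑ n ∈ D, u n + (s + 1) * (2 * T) = (s + 1) * ((s + 1) * T) := by
    have h : ∑ n ∈ D, u n = ∑ a ∈ C, (D.filter fun n => R n a).card :=
      sum_card_bipartiteAbove_eq_sum_card_bipartiteBelow R (s := D) (t := C)
    rw [h, ← hCc, ← smul_eq_mul C.card, ← smul_eq_mul C.card, ← sum_const (2 * T) (s := C),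
      ← sum_const ((C.card) * T) (s := C), ← sum_add_distrib]
    exact sum_congr rfl fun a ha => by rw [hone a ha, hCc]
  have hsq : ∑ n ∈ D, u n ^ 2 + 2 * ((s + 1) * s) = (s + 1) * s * (s + 1) + ∑ n ∈ D, u n := by
    have h : ∀ n, u n ^ 2 = (C.offDiag.filter fun p => R n p.1 ∧ R n p.2).card + u n := by
      intro n
      have e : C.offDiag.filter (fun p => R n p.1 ∧ R n p.2) = (C.filter fun a => R n a).offDiag := by
        ext p; simp only [mem_filter, mem_offDiag]; tauto
      rw [e, offDiag_card, pow_two]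
      exact (Nat.sub_add_cancel (Nat.le_mul_self _)).symm
    have h2 : ∑ n ∈ D, (C.offDiag.filter fun p => R n p.1 ∧ R n p.2).card =
        ∑ p ∈ C.offDiag, (D.filter fun n => R n p.1 ∧ R n p.2).card :=
      sum_card_bipartiteAbove_eq_sum_card_bipartiteBelow (fun n (p : V × V) => R n p.1 ∧ R n p.2)
        (s := D) (t := C.offDiag)
    have h3 : C.offDiag.card = (s + 1) * s := by
      rw [offDiag_card, hCc]; exact Nat.sub_eq_of_eq_add (by ring)
    have h4 : ∑ p ∈ C.offDiag, (D.filter fun n => R n p.1 ∧ R n p.2).card + (s + 1) * s * 2 =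
        (s + 1) * s * (s + 1) := by
      rw [← h3, ← smul_eq_mul C.offDiag.card, ← smul_eq_mul C.offDiag.card, ← sum_const, ← sum_const,
        ← sum_add_distrib]
      exact sum_congr rfl htwo
    rw [sum_congr rfl fun n _ => h n, sum_add_distrib, h2]
    linarith
  have hcs : (∑ n ∈ D, u n) ^ 2 ≤ D.card * ∑ n ∈ D, u n ^ 2 := sq_sum_le_card_mul_sum_sq
  -- arithmetic
  set A := ∑ n ∈ D, u n
  set B := ∑ n ∈ D, u n ^ 2
  set k := D.card
  zify at hDc hsum hsq hcs hs hq
  have e1 : (A : ℤ) = ((s : ℤ) + 1) * ((s : ℤ) - 1) * T := by linear_combination hsum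
  have e2 : (B : ℤ) = ((s : ℤ) + 1) * ((s : ℤ) - 1) * (s + T) := by linear_combination hsq + e1
  have e3 : (k : ℤ) = (s : ℤ) * T * T - s * T - T + s := by linear_combination hDc
  rw [e1, e2, e3] at hcs
  have hT : (2 : ℤ) ≤ T := by linarith
  have hs1 : (1 : ℤ) < s := by nlinarith
  have hpos : (0 : ℤ) < ((s : ℤ) + 1) * ((s : ℤ) - 1) := mul_pos (by linarith) (by linarith)
  have h5 : ((s : ℤ) + 1) * ((s : ℤ) - 1) * (T * T) ≤
      ((s : ℤ) * T * T - s * T - T + s) * (s + T) := by
    refine le_of_mul_le_mul_left ?_ hpos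
    calc _ = (((s : ℤ) + 1) * ((s : ℤ) - 1) * T) ^ 2 := by ring
      _ ≤ _ := hcs
      _ = _ := by ring
  have h6 : (0 : ℤ) < (s : ℤ) * ((T : ℤ) - 1) * ((s : ℤ) - T * T) :=
    mul_pos (mul_pos (by linarith) (by linarith)) (by linarith)
  nlinarith

end Higman

attribute [local instance] Comp.grp Comp.fin

variable {G : Type u} [Group G] [Finite G] {S : Sylow 2 G} {t : G} (d : Comp S t) (hN : Hyp G)
include d hN

theorem order_conj {x : G} (hx : IsConj t x) : orderOf x = 2 := by
  obtain ⟨g, hg⟩ := isConj_iff.1 hx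
  rw [← hg, Involutions.Basic.orderOf_conj, d.ht]

variable (hi : 2 ≤ d.i)
include hi

/-- In every Sylow subgroup the conjugates of `t` form one family. -/
theorem family (U : Sylow 2 G) {u v : G} (hu : u ∈ cls U t) (hv : v ∈ cls U t) :
    ∃ w ∈ centInv U, v = u * w := by
  obtain ⟨du⟩ := comp_of_conj d hN hu.2 hu.1
  exact one_family du hN ((same_i d hN du).symm ▸ hi) v ⟨hv.1, hu.2.symm.trans hv.2⟩

theorem commute_cls (U : Sylow 2 G) {u v : G} (hu : u ∈ cls U t) (hv : v ∈ cls U t) :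
    Commute u v := by
  obtain ⟨w, hw, rfl⟩ := family d hN hi U hu hv
  exact (Commute.refl u).mul_right (hw.2.2 u hu.1).symm

theorem ncard_cls (U : Sylow 2 G) : (cls U t).ncard = 2 ^ d.n := by
  haveI := Fact.mk Nat.prime_two
  obtain ⟨g, rfl⟩ := MulAction.exists_smul_eq G S U
  have hu : g * t * g⁻¹ ∈ cls (g • S) t := ⟨conj_mem_smul g d.htS, isConj_iff.2 ⟨g, rfl⟩⟩
  obtain ⟨du⟩ := comp_of_conj d hN hu.2 hu.1
  rw [← same_n d hN du, ← card_centInv du hN, ← SetLike.coe_sort_coe, Nat.card_coe_set_eq]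
  refine (Set.ncard_congr (fun w _ => g * t * g⁻¹ * w) (fun w hw => ?_)
    (fun a b _ _ h => mul_left_cancel h) (fun v hv => ?_)).symm
  · obtain ⟨h1, h2⟩ := isConj_mul du hN du.htS hw
    exact ⟨h2, hu.2.trans h1⟩
  · obtain ⟨w, hw, e⟩ := family d hN hi (g • S) hu hv
    exact ⟨w, hw, e.symm⟩

/-- The class is too large a quadrangle. -/
theorem quadrangle : False := by
  classical
  haveI := Fact.mk Nat.prime_two
  set q := 2 ^ d.n with hq
  set s := q ^ d.i with hs
  have hq4 : 4 ≤ q := q_ge d hN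
  let V := {x : G // IsConj t x}
  let R : V → V → Prop := fun x y => x ≠ y ∧ Commute (x : G) y
  have hc : ∀ (U : Sylow 2 G) (x : V), (x : G) ∈ (U : Subgroup G) → (x : G) ∈ cls U t :=
    fun U x hx => ⟨hx, x.2⟩
  have hsymm : ∀ x y, R x y → R y x := fun x y h => ⟨h.1.symm, h.2.symm⟩
  have hpair : ∀ x y, R x y → ∃ U : Sylow 2 G, (x : G) ∈ (U : Subgroup G) ∧
      (y : G) ∈ (U : Subgroup G) := by
    intro x y h
    obtain ⟨U, h1, h2⟩ := exists_sylow_pair (order_conj d hN x.2) (order_conj d hN y.2) h.2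
    exact ⟨U, h1, h2⟩
  have huniq : ∀ (x y : V) (U U' : Sylow 2 G), x ≠ y → (x : G) ∈ (U : Subgroup G) →
      (x : G) ∈ (U' : Subgroup G) → (y : G) ∈ (U : Subgroup G) → (y : G) ∈ (U' : Subgroup G) →
      U = U' := fun x y U U' hne h1 h2 h3 h4 =>
    hN.hH.reduced.cycInt.eq_of_two h1 h2 h3 h4 (order_conj d hN x.2) (order_conj d hN y.2)
      fun e => hne (Subtype.ext e)
  have hmeet : ∀ (x y z : V) (U : Sylow 2 G), (x : G) ∉ (U : Subgroup G) →
      (y : G) ∈ (U : Subgroup G) → (z : G) ∈ (U : Subgroup G) → Commute (y : G) x →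
      Commute (z : G) x → y = z := by
    intro x y z U hx hy hz hyx hzx
    obtain ⟨A, hA⟩ := exists_sylow_mem (order_conj d hN x.2)
    obtain ⟨dx⟩ := comp_of_conj d hN x.2 hA
    exact Subtype.ext
      (eq_of_meet dx hN hx (order_conj d hN y.2) (order_conj d hN z.2) hy hz hyx hzx)
  have hfix : ∀ x : V, Nat.card {U : Sylow 2 G // (x : G) ∈ (U : Subgroup G)} = s + 1 :=
    fun x => card_fix_conj d hN x.2
  have hline : ∀ U : Sylow 2 G, Nat.card {y : V // (y : G) ∈ (U : Subgroup G)} = q := by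
    intro U
    rw [hq, ← ncard_cls d hN hi U, ← Nat.card_coe_set_eq]
    exact Nat.card_congr
      { toFun := fun y => ⟨y.1.1, y.2, y.1.2⟩
        invFun := fun y => ⟨⟨y.1, y.2.2⟩, y.2.1⟩
        left_inv := fun _ => rfl
        right_inv := fun _ => rfl }
  have hline' : ∀ (U : Sylow 2 G) (x : V), (x : G) ∈ (U : Subgroup G) →
      Nat.card {y : V // (y : G) ∈ (U : Subgroup G) ∧ y ≠ x} = q - 1 := by
    intro U x hx
    show Nat.card ↥({y : V | (y : G) ∈ (U : Subgroup G)} \ {x}) = _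
    rw [Nat.card_coe_set_eq, Set.ncard_sdiff_singleton_of_mem (show x ∈ _ from hx),
      ← Nat.card_coe_set_eq]
    exact congrArg (· - 1) (hline U)
  have hdeg : ∀ x : V, Nat.card {y // R x y} = (s + 1) * (q - 1) := by
    intro x
    rw [← hfix x, ← natCard_sigma_const (β := fun U : {U : Sylow 2 G // (x : G) ∈ (U : Subgroup G)} =>
      {y : V // (y : G) ∈ ((U : Sylow 2 G) : Subgroup G) ∧ y ≠ x}) fun U => hline' U x U.2]
    refine (Nat.card_eq_of_bijective (fun p => (⟨p.2.1, p.2.2.2.symm,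
      commute_cls d hN hi p.1.1 (hc _ x p.1.2) (hc _ p.2.1 p.2.2.1)⟩ : {y // R x y})) ⟨?_, ?_⟩).symm
    · rintro ⟨⟨U, hU⟩, y, hy, hne⟩ ⟨⟨U', hU'⟩, y', hy', hne'⟩ h
      obtain rfl : y = y' := congrArg Subtype.val h
      obtain rfl : U = U' := huniq x y U U' hne.symm hU hU' hy hy'
      rfl
    · rintro ⟨y, hy⟩
      obtain ⟨U, h1, h2⟩ := hpair x y hy
      exact ⟨⟨⟨U, h1⟩, y, h2, hy.1.symm⟩, rfl⟩
  -- the axiom of the quadrangle
  have haxiom : ∀ (y : V) (U : Sylow 2 G), (y : G) ∉ (U : Subgroup G) →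
      ∃ z : V, (z : G) ∈ (U : Subgroup G) ∧ R y z := by
    intro y
    let B : {z // R y z} → Type _ := fun z =>
      {U : Sylow 2 G // (z.1 : G) ∈ (U : Subgroup G) ∧ (y : G) ∉ (U : Subgroup G)}
    have hB : ∀ z, Nat.card (B z) = s := by
      rintro ⟨z, hz⟩
      obtain ⟨U₀, h1, h2⟩ := hpair y z hz
      have e : {U : Sylow 2 G | (z : G) ∈ (U : Subgroup G) ∧ (y : G) ∉ (U : Subgroup G)} =
          {U : Sylow 2 G | (z : G) ∈ (U : Subgroup G)} \ {U₀} := by
        ext U
        refine ⟨fun h => ⟨h.1, fun e => h.2 (Set.mem_singleton_iff.1 e ▸ h1)⟩, fun h => ⟨h.1,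
          fun hy => h.2 (Set.mem_singleton_iff.2 (huniq y z U U₀ hz.1 hy h1 h.1 h2))⟩⟩
      show Nat.card ↥{U : Sylow 2 G | (z : G) ∈ (U : Subgroup G) ∧ (y : G) ∉ (U : Subgroup G)} = s
      rw [Nat.card_coe_set_eq, e, Set.ncard_sdiff_singleton_of_mem (show U₀ ∈ _ from h2),
        ← Nat.card_coe_set_eq]
      exact Nat.sub_eq_of_eq_add (hfix z)
    let f : (Σ z, B z) → {U : Sylow 2 G // (y : G) ∉ (U : Subgroup G)} := fun p => ⟨p.2.1, p.2.2.2⟩
    have hinj : Function.Injective f := by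
      rintro ⟨⟨z, hz⟩, U, hU⟩ ⟨⟨z', hz'⟩, U', hU'⟩ h
      obtain rfl : U = U' := congrArg Subtype.val h
      obtain rfl : z = z' := hmeet y z z' U hU.2 hU.1 hU'.1 hz.2.symm hz'.2.symm
      rfl
    have hcard : Nat.card {U : Sylow 2 G // (y : G) ∉ (U : Subgroup G)} = Nat.card (Σ z, B z) := by
      haveI := Fintype.ofFinite (Sylow 2 G)
      rw [natCard_sigma_const hB, hdeg, Nat.card_eq_fintype_card, Fintype.card_subtype_compl,
        ← Nat.card_eq_fintype_card, ← Nat.card_eq_fintype_card, hfix, card_sylow d hN, ← hq, ← hs]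
      refine Nat.sub_eq_of_eq_add ?_
      ring
    intro U hU
    obtain ⟨⟨⟨z, hz⟩, U', hU'⟩, e⟩ :=
      ((Function.Injective.bijective_of_nat_card_le hinj hcard.le).2) ⟨U, hU⟩
    obtain rfl : U' = U := congrArg Subtype.val e
    exact ⟨z, hU'.1, hz⟩
  have hnon : ∀ x y, x ≠ y → ¬ R x y → Nat.card {z // R x z ∧ R y z} = s + 1 := by
    intro x y hne hxy
    have hyU : ∀ U : {U : Sylow 2 G // (x : G) ∈ (U : Subgroup G)},
        (y : G) ∉ ((U : Sylow 2 G) : Subgroup G) := fun U h =>
      hxy ⟨hne, commute_cls d hN hi U.1 (hc _ x U.2) (hc _ y h)⟩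
    choose f hf1 hf2 using fun U => haxiom y U.1 (hyU U)
    rw [← hfix x]
    refine (Nat.card_eq_of_bijective (fun U => (⟨f U, ⟨fun e => hxy (hsymm _ _ (e ▸ hf2 U)),
      commute_cls d hN hi U.1 (hc _ x U.2) (hc _ _ (hf1 U))⟩, hf2 U⟩ : {z // R x z ∧ R y z}))
      ⟨?_, ?_⟩).symm
    · intro U U' h
      have e : f U = f U' := congrArg Subtype.val h
      refine Subtype.ext (huniq x (f U) U.1 U'.1 (fun e' => hxy (hsymm _ _ (e' ▸ hf2 U))) U.2 U'.2
        (hf1 U) (e ▸ hf1 U'))
    · rintro ⟨z, hxz, hyz⟩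
      obtain ⟨U, h1, h2⟩ := hpair x z hxz
      refine ⟨⟨U, h1⟩, Subtype.ext ?_⟩
      exact hmeet y _ z U (hyU ⟨U, h1⟩) (hf1 ⟨U, h1⟩) h2 (hf2 ⟨U, h1⟩).2.symm hyz.2.symm
  have hadj : ∀ x y, R x y → Nat.card {z // R x z ∧ R y z} = q - 2 := by
    intro x y hxy
    obtain ⟨U, hx, hy⟩ := hpair x y hxy
    have e : {z : V | R x z ∧ R y z} = ({z : V | (z : G) ∈ (U : Subgroup G)} \ {x}) \ {y} := by
      ext z
      constructor
      · rintro ⟨hxz, hyz⟩
        refine ⟨⟨?_, hxz.1.symm⟩, hyz.1.symm⟩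
        by_contra hzU
        exact hxy.1 (hmeet z x y U hzU hx hy hxz.2 hyz.2)
      · rintro ⟨⟨hz, hzx⟩, hzy⟩
        exact ⟨⟨Ne.symm hzx, commute_cls d hN hi U (hc _ x hx) (hc _ z hz)⟩,
          ⟨Ne.symm hzy, commute_cls d hN hi U (hc _ y hy) (hc _ z hz)⟩⟩
    show Nat.card ↥{z : V | R x z ∧ R y z} = _
    rw [Nat.card_coe_set_eq, e,
      Set.ncard_sdiff_singleton_of_mem
        (show y ∈ {z : V | (z : G) ∈ (U : Subgroup G)} \ {x} from ⟨hy, hxy.1.symm⟩),
      Set.ncard_sdiff_singleton_of_mem (show x ∈ _ from hx), ← Nat.card_coe_set_eq, Nat.sub_sub]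
    exact congrArg (· - 2) (hline U)
  have hv : Nat.card V = q * (1 + s * (q - 1)) := by
    have h1 : Nat.card (Sylow 2 G) * q = Nat.card V * (s + 1) := by
      rw [← natCard_sigma_const hline, ← natCard_sigma_const hfix]
      exact Nat.card_congr
        { toFun := fun p => ⟨p.2.1, p.1, p.2.2⟩
          invFun := fun p => ⟨p.2.1, p.1, p.2.2⟩
          left_inv := fun _ => rfl
          right_inv := fun _ => rfl }
    rw [card_sylow d hN, ← hq, ← hs] at h1
    refine Nat.eq_of_mul_eq_mul_right (Nat.succ_pos s) ?_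
    rw [Nat.succ_eq_add_one, ← h1]
    ring
  have hind : ∀ l m a b, l ≠ m → ¬ R l m → R l a → R m a → R l b → R m b → ¬ R a b := by
    intro l m a b hne hlm hla hma hlb hmb hab
    obtain ⟨U, ha, hb⟩ := hpair a b hab
    have hmem : ∀ x, R x a → R x b → (x : G) ∈ (U : Subgroup G) := by
      intro x hxa hxb
      by_contra hx
      exact hab.1 (hmeet x a b U hx ha hb hxa.2.symm hxb.2.symm)
    exact hlm ⟨hne, commute_cls d hN hi U (hc _ l (hmem l hla hlb)) (hc _ m (hmem m hma hmb))⟩
  haveI : Nonempty V := ⟨⟨t, IsConj.refl t⟩⟩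
  refine higman R hsymm (fun a h => h.1 rfl) s q hdeg hadj hnon hv hind (by omega) ?_
  calc (q - 1) * (q - 1) < q * q := Nat.mul_lt_mul_of_lt_of_lt (by omega) (by omega)
    _ = q ^ 2 := (pow_two q).symm
    _ ≤ s := hs ▸ Nat.pow_le_pow_right (by omega) hi

end Cfsg.Agent.CyclicSylowInter.Noncentral
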