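import Cfsg.Agent.Lib.CyclicSylowInter.Noncentral.Count

/-!
# The noncentral branch: no additive function on `S` is one at all conjugates of `t`
-/

set_option autoImplicit false
set_option linter.style.haveILetI false
set_option linter.unusedSectionVars false

namespace Cfsg.Agent.CyclicSylowInter.Noncentral

open Subgroup
open scoped Pointwise
open Cfsg.Agent.ZStar.CyclicIntersections

universe u

attribute [local instance] Comp.grp Comp.fin

variable {G : Type u} [Group G] [Finite G] {S : Sylow 2 G} {t : G}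

theorem zmod_two_cases : ∀ z : ZMod 2, z = 0 ∨ z = 1 := by decide

theorem zmod_two_add : (1 : ZMod 2) + 1 = 0 := by decide

/-- Averaging over `N(S)/S` gives an invariant maximal subgroup of `S` avoiding the class. -/
theorem false_of_functional (d : Comp S t) (hN : Hyp G) (f : G → ZMod 2)
    (hadd : ∀ a ∈ (S : Subgroup G), ∀ b ∈ (S : Subgroup G), f (a * b) = f a + f b)
    (hone : ∀ x ∈ cls S t, f x = 1) : False := by
  classical
  haveI := Fact.mk Nat.prime_two
  set N := normalizer ((S : Subgroup G) : Set G) with hNdef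
  set S' := (S : Subgroup G).subgroupOf N with hS'
  haveI := Fintype.ofFinite (↥N ⧸ S')
  have hconjS : ∀ (c : ↥N) (x : G), x ∈ (S : Subgroup G) → (c : G)⁻¹ * x * c ∈ (S : Subgroup G) :=
    fun c x hx => by
      have := (mem_normalizer_iff.1 (inv_mem c.2) x).1 hx
      rwa [inv_inv] at this
  have hf1 : f 1 = 0 := by
    have h := hadd 1 (one_mem _) 1 (one_mem _)
    rw [mul_one] at h
    simpa using h
  have hfconj : ∀ s ∈ (S : Subgroup G), ∀ x ∈ (S : Subgroup G), f (s⁻¹ * x * s) = f x := by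
    intro s hs x hx
    rw [hadd _ (mul_mem (inv_mem hs) hx) _ hs, hadd _ (inv_mem hs) _ hx, add_right_comm,
      ← hadd _ (inv_mem hs) _ hs, inv_mul_cancel, hf1, zero_add]
  let g : G → ZMod 2 := fun x => ∑ c : ↥N ⧸ S', f ((c.out : G)⁻¹ * x * (c.out : G))
  have hgadd : ∀ a ∈ (S : Subgroup G), ∀ b ∈ (S : Subgroup G), g (a * b) = g a + g b := by
    intro a ha b hb
    rw [← Finset.sum_add_distrib]
    refine Finset.sum_congr rfl fun c _ => ?_
    rw [← hadd _ (hconjS c.out a ha) _ (hconjS c.out b hb)]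
    congr 1
    group
  have hginv : ∀ m ∈ N, ∀ x ∈ (S : Subgroup G), g (m * x * m⁻¹) = g x := by
    intro m hm x hx
    refine Fintype.sum_equiv (MulAction.toPerm ((⟨m, hm⟩ : ↥N)⁻¹)) _ _ fun c => ?_
    set c' : ↥N ⧸ S' := (⟨m, hm⟩ : ↥N)⁻¹ • c with hc'
    show f _ = f ((c'.out : G)⁻¹ * x * (c'.out : G))
    have hrel : ((⟨m, hm⟩ : ↥N)⁻¹ * c.out)⁻¹ * c'.out ∈ S' := by
      rw [← QuotientGroup.eq, hc', QuotientGroup.out_eq']
      conv_rhs => rw [← QuotientGroup.out_eq' c]
      rfl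
    have hrel' : ((m⁻¹ * (c.out : G))⁻¹ * (c'.out : G)) ∈ (S : Subgroup G) := hrel
    rw [← hfconj _ hrel' ((c.out : G)⁻¹ * (m * x * m⁻¹) * (c.out : G))
      (hconjS c.out _ ((mem_normalizer_iff.1 hm x).1 hx))]
    congr 1
    group
  have hodd : Odd (Nat.card (↥N ⧸ S')) := by
    rw [Nat.odd_iff, ← Nat.two_dvd_ne_zero]
    haveI : ((S.subtype le_normalizer : Sylow 2 ↥N) : Subgroup ↥N).Normal :=
      normal_subgroupOf_of_le_normalizer le_rfl
    exact (S.subtype (le_normalizer (H := (S : Subgroup G)))).not_dvd_index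
  have hgone : g t = 1 := by
    show ∑ c : ↥N ⧸ S', f ((c.out : G)⁻¹ * t * (c.out : G)) = 1
    rw [Finset.sum_congr rfl fun c _ => hone _ ⟨hconjS c.out t d.htS,
      isConj_iff.2 ⟨(c.out : G)⁻¹, by rw [inv_inv]⟩⟩, Finset.sum_const, Finset.card_univ,
      ← Nat.card_eq_fintype_card, nsmul_one]
    exact ZMod.natCast_eq_one_iff_odd.2 hodd
  have hg1 : g 1 = 0 := by
    have h := hgadd 1 (one_mem _) 1 (one_mem _)
    rw [mul_one] at h
    simpa using h
  let M : Subgroup G :=
    { carrier := {x | x ∈ (S : Subgroup G) ∧ g x = 0}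
      one_mem' := ⟨one_mem _, hg1⟩
      mul_mem' := fun {a b} ha hb =>
        ⟨mul_mem ha.1 hb.1, by rw [hgadd a ha.1 b hb.1, ha.2, hb.2, add_zero]⟩
      inv_mem' := fun {a} ha => ⟨inv_mem ha.1, by
        have h := hgadd a⁻¹ (inv_mem ha.1) a ha.1
        rw [inv_mul_cancel, hg1, ha.2, add_zero] at h
        exact h.symm⟩ }
  refine hN.hH.no_index_two S M (fun x hx => hx.1) (fun m hm x hx =>
    ⟨(mem_normalizer_iff.1 hm x).1 hx.1, by rw [hginv m hm x hx.1, hx.2]⟩) ?_
  show (M.subgroupOf (S : Subgroup G)).index = 2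
  rw [Subgroup.index_eq_two_iff]
  refine ⟨⟨t, d.htS⟩, fun b => ?_⟩
  have hb : g ((b : G) * t) = g b + 1 := by rw [hgadd b b.2 t d.htS, hgone]
  rcases zmod_two_cases (g (b : G))
    with h | h
  · exact Or.inr ⟨⟨b.2, h⟩, fun hc => by
      have h0 : g ((b : G) * t) = 0 := hc.2
      rw [hb, h, zero_add] at h0; exact one_ne_zero h0⟩
  · exact Or.inl ⟨⟨mul_mem b.2 d.htS, by show g ((b : G) * t) = 0; rw [hb, h, zmod_two_add]⟩, fun hc => by
      have h0 : g (b : G) = 0 := hc.2
      rw [h] at h0; exact one_ne_zero h0⟩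

end Cfsg.Agent.CyclicSylowInter.Noncentral
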