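import Cfsg.Agent.Lib.CyclicSylowInter.Tools
import Cfsg.Agent.Lib.CyclicSylowInter.Central.Frame

/-!
# A noncentral involution with nonsolvable centraliser: the trace of `S`

`tr S t = S ⊓ C(t)` is a double cover of the Sylow subgroup of the component with kernel `⟨t⟩`,
its involutions are `t`, the central involutions of `S` and their products with `t`, and `t` is
conjugate in `S` to all its products with central involutions.
-/

set_option autoImplicit false
set_option linter.style.haveILetI false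
set_option linter.unusedSectionVars false

namespace Cfsg.Agent.CyclicSylowInter.Noncentral

open Subgroup
open scoped Pointwise
open Cfsg.Agent.ZStar.CyclicIntersections

universe u

attribute [local instance] Comp.grp Comp.fin

/-- The hypotheses of the branch. -/
structure Hyp (G : Type u) [Group G] [Finite G] : Prop where
  hH : SimpleHyp G
  solv : ∀ (S : Sylow 2 G) (z : G), orderOf z = 2 → z ∈ (S : Subgroup G) →
    (∀ s ∈ (S : Subgroup G), Commute z s) → Group.IsSolvable ↥(cen z)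
  comp : ∀ (S : Sylow 2 G) (t : G), orderOf t = 2 → t ∈ (S : Subgroup G) →
    ¬ Group.IsSolvable ↥(cen t) → Nonempty (Comp S t)

variable {G : Type u} [Group G] [Finite G] {S : Sylow 2 G} {t : G}

/-- The trace of `S` in the centraliser. -/
abbrev tr (S : Sylow 2 G) (t : G) : Subgroup G := (S : Subgroup G) ⊓ cen t

theorem mem_tr {x : G} : x ∈ tr S t ↔ x ∈ (S : Subgroup G) ∧ Commute x t := by
  rw [mem_inf, mem_cent]

theorem tr_cen {x : G} (hx : x ∈ tr S t) : x ∈ cen t := hx.2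

theorem mk_tr {x : G} (h : x ∈ (S : Subgroup G)) (h' : x ∈ cen t) : x ∈ tr S t := ⟨h, h'⟩

theorem orderOf_of_sq {x : G} (h : x * x = 1) (h1 : x ≠ 1) : orderOf x = 2 :=
  Involutions.Basic.orderOf_two_iff.2 ⟨h, h1⟩

theorem ne_one_of_two {x : G} (h : orderOf x = 2) : x ≠ 1 := Involutions.Basic.ne_one h

theorem conj_centInv {n x : G} (hn : n ∈ normalizer ((S : Subgroup G) : Set G))
    (hx : x ∈ centInv S) : n * x * n⁻¹ ∈ centInv S :=
  ⟨(mem_normalizer_iff.1 hn x).1 hx.1, by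
    rw [show n * x * n⁻¹ * (n * x * n⁻¹) = n * (x * x) * n⁻¹ by group, hx.2.1, mul_one,
      mul_inv_cancel], fun _ hs => commute_conj_of_normalizer hn hx.2.2 hs⟩

theorem centInv_smul (g : G) {x : G} (hx : x ∈ centInv S) :
    g * x * g⁻¹ ∈ centInv (g • S) := by
  refine ⟨conj_mem_smul g hx.1, ?_, fun s hs => ?_⟩
  · rw [show g * x * g⁻¹ * (g * x * g⁻¹) = g * (x * x) * g⁻¹ by group, hx.2.1, mul_one,
      mul_inv_cancel]
  · have h := hx.2.2 (g⁻¹ * s * g) (mem_smul.1 hs)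
    show g * x * g⁻¹ * s = s * (g * x * g⁻¹)
    calc g * x * g⁻¹ * s = g * (x * (g⁻¹ * s * g)) * g⁻¹ := by group
      _ = g * ((g⁻¹ * s * g) * x) * g⁻¹ := by rw [h.eq]
      _ = s * (g * x * g⁻¹) := by group

theorem card_centInv_smul (g : G) (S : Sylow 2 G) :
    Nat.card ↥(centInv (g • S)) = Nat.card ↥(centInv S) := by
  refine (Nat.card_congr (Equiv.ofBijective
    (fun x : ↥(centInv S) => (⟨g * x * g⁻¹, centInv_smul g x.2⟩ : ↥(centInv (g • S))))
    ⟨fun a b h => ?_, fun y => ?_⟩)).symm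
  · exact Subtype.ext (mul_left_cancel (mul_right_cancel (congrArg Subtype.val h :)))
  · have h := centInv_smul g⁻¹ y.2
    rw [inv_smul_smul] at h
    exact ⟨⟨_, h⟩, Subtype.ext (by simp [mul_assoc])⟩

variable (d : Comp S t)

/-- The projection, extended by `1` outside the centraliser. -/
noncomputable def pr (x : G) : d.Q :=
  open Classical in if h : x ∈ cen t then d.π ⟨x, h⟩ else 1

theorem pr_eq {x : G} (h : x ∈ cen t) : pr d x = d.π ⟨x, h⟩ := dif_pos h

theorem t_mem_cen : t ∈ cen t := mem_cent.2 (Commute.refl t)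

theorem pr_t : pr d t = 1 := by rw [pr_eq d t_mem_cen]; exact d.mem_ker_self _

theorem pr_one : pr d 1 = 1 := by rw [pr_eq d (one_mem _)]; exact map_one d.π

theorem pr_mul {x y : G} (hx : x ∈ cen t) (hy : y ∈ cen t) : pr d (x * y) = pr d x * pr d y := by
  rw [pr_eq d hx, pr_eq d hy, pr_eq d (mul_mem hx hy), ← map_mul]; rfl

theorem pr_inv {x : G} (hx : x ∈ cen t) : pr d x⁻¹ = (pr d x)⁻¹ := by
  rw [pr_eq d hx, pr_eq d (inv_mem hx), ← map_inv]; rfl

theorem pr_pow {x : G} (hx : x ∈ cen t) (k : ℕ) : pr d (x ^ k) = pr d x ^ k := by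
  rw [pr_eq d hx, pr_eq d (pow_mem hx k), ← map_pow]; rfl

theorem pr_conj {x g : G} (hg : g ∈ cen t) (hx : x ∈ cen t) :
    pr d (g * x * g⁻¹) = pr d g * pr d x * (pr d g)⁻¹ := by
  rw [pr_mul d (mul_mem hg hx) (inv_mem hg), pr_mul d hg hx, pr_inv d hg]

theorem exists_pr (y : d.Q) : ∃ g ∈ cen t, pr d g = y := by
  obtain ⟨⟨g, hg⟩, e⟩ := d.surj y
  exact ⟨g, hg, by rw [pr_eq d hg, e]⟩

/-- The image of the trace. -/
abbrev PL : Subgroup d.Q := Central.trace d

theorem pr_mem {x : G} (hx : x ∈ tr S t) : pr d x ∈ PL d := by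
  rw [pr_eq d hx.2]; exact mem_map_of_mem _ (show _ ∈ _ from hx.1)

theorem exists_tr {y : d.Q} (hy : y ∈ PL d) : ∃ x ∈ tr S t, pr d x = y := by
  obtain ⟨⟨x, hx⟩, hxS, e⟩ := hy
  exact ⟨x, ⟨hxS, hx⟩, by rw [pr_eq d hx, e]⟩

theorem exists_SL {y : d.Q} (hy : y ∈ PL d) :
    ∃ a ∈ (d.SL : Subgroup ↥d.L), (a : d.Q) = y := by
  rw [show PL d = _ from Central.trace_eq d] at hy
  obtain ⟨a, ha, e⟩ := hy
  exact ⟨a, ha, e⟩

theorem coe_mem {a : ↥d.L} (ha : a ∈ (d.SL : Subgroup ↥d.L)) : (a : d.Q) ∈ PL d := by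
  rw [show PL d = _ from Central.trace_eq d]
  exact mem_map_of_mem d.L.subtype ha

/-- An involution of the image commutes with the image. -/
theorem commute_of_sq {y z : d.Q} (hy : y ∈ PL d) (hz : z ∈ PL d) (h : y * y = 1) :
    Commute y z := by
  obtain ⟨a, ha, rfl⟩ := exists_SL d hy
  obtain ⟨b, hb, rfl⟩ := exists_SL d hz
  by_cases h1 : a = 1
  · subst h1; exact Commute.one_left _
  have h2 : orderOf a = 2 := Involutions.Basic.orderOf_two_iff.2 ⟨Subtype.ext h, h1⟩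
  exact congrArg Subtype.val (d.data.inv_central a ha h2 b hb).eq

theorem sq_of_central {y : d.Q} (hy : y ∈ PL d) (h : ∀ z ∈ PL d, Commute y z) : y * y = 1 := by
  obtain ⟨a, ha, rfl⟩ := exists_SL d hy
  exact congrArg Subtype.val
    (d.data.center_sq a ha fun b hb => Subtype.ext (h _ (coe_mem d hb)).eq)

theorem sq_sq {y : d.Q} (hy : y ∈ PL d) : y * y * (y * y) = 1 := by
  obtain ⟨a, ha, rfl⟩ := exists_SL d hy
  exact congrArg Subtype.val (d.data.sq_sq a ha)

theorem card_PL : Nat.card ↥(PL d) = (2 ^ d.n) ^ d.i := by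
  rw [show PL d = _ from Central.trace_eq d, Nat.card_congr
    (Subgroup.equivMapOfInjective _ _ (subtype_injective _)).toEquiv.symm, d.data.card_sylow]

theorem ncard_sq : {y : d.Q | y ∈ PL d ∧ y * y = 1}.ncard = 2 ^ d.n := by
  have e : {y : d.Q | y ∈ PL d ∧ y * y = 1} =
      insert 1 (Subtype.val '' {x : ↥d.L | x ∈ (d.SL : Subgroup ↥d.L) ∧ orderOf x = 2}) := by
    ext y
    constructor
    · rintro ⟨hy, h⟩
      obtain ⟨a, ha, rfl⟩ := exists_SL d hy
      by_cases h1 : a = 1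
      · exact Or.inl (by rw [h1]; rfl)
      · exact Or.inr ⟨a, ⟨ha, Involutions.Basic.orderOf_two_iff.2 ⟨Subtype.ext h, h1⟩⟩, rfl⟩
    · rintro (rfl | ⟨a, ⟨ha, h⟩, rfl⟩)
      · exact ⟨one_mem _, one_mul 1⟩
      · exact ⟨coe_mem d ha, congrArg Subtype.val (Involutions.Basic.inv_sq_one h)⟩
  have h2 := d.data.two_le
  rw [e, Set.ncard_insert_of_notMem, Set.ncard_image_of_injective _ Subtype.val_injective,
    d.data.ncard_inv]
  · exact Nat.succ_pred_eq_of_pos (Nat.two_pow_pos _)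
  · rintro ⟨a, ⟨-, h⟩, ha⟩
    exact Involutions.Basic.ne_one h (Subtype.ext ha)

/-- An involution of the trace killed by the projection is `t`. -/
theorem eq_or_eq_of_sq {x : G} (hx : x ∈ tr S t) (h2 : x * x = 1) (h : pr d x = 1) :
    x = 1 ∨ x = t := by
  by_cases h1 : x = 1
  · exact Or.inl h1
  right
  have hxo : orderOf (⟨x, hx.2⟩ : ↥(cen t)) = 2 := by
    rw [← Subgroup.orderOf_coe]; exact orderOf_of_sq h2 h1
  have hto : orderOf (⟨t, t_mem_cen⟩ : ↥(cen t)) = 2 := by rw [← Subgroup.orderOf_coe]; exact d.ht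
  exact congrArg Subtype.val (eq_of_cyclic d.ker_cyclic
    (x := (⟨x, hx.2⟩ : ↥(cen t))) (y := ⟨t, t_mem_cen⟩)
    ⟨hx.1, MonoidHom.mem_ker.2 ((pr_eq d hx.2).symm.trans h)⟩
    ⟨d.htS, MonoidHom.mem_ker.2 (d.mem_ker_self _)⟩ hxo hto)

/-- A 2-element of the centraliser over the trace lies in `S`. -/
theorem mem_of_pow {x : G} (hx : x ∈ cen t) {k : ℕ} (hk : x ^ (2 ^ k) = 1)
    (h : pr d x ∈ PL d) : x ∈ (S : Subgroup G) := by
  rw [pr_eq d hx] at h
  obtain ⟨p, hpS, -, o, ho, e⟩ := Central.exists_of_trace d h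
  obtain ⟨j, hj⟩ := S.isPGroup' ⟨p, hpS⟩
  have hk' : (⟨x, hx⟩ : ↥(cen t)) ^ (2 ^ (k + j)) = 1 := by
    apply Subtype.ext
    rw [SubgroupClass.coe_pow, pow_add, pow_mul, hk, one_pow, OneMemClass.coe_one]
  have hj' : p ^ (2 ^ (k + j)) = 1 := by
    rw [pow_add, mul_comm, pow_mul, show p ^ (2 ^ j) = 1 from
      Subtype.ext (congrArg Subtype.val hj :), one_pow]
  have ho1 : o = 1 := by
    refine Central.eq_one_of_core ho (k := k + j) ?_
    rwa [e, (d.core_comm o ho p hpS).symm.mul_pow, hj', one_mul] at hk'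
  rw [ho1, mul_one] at e
  have : x = p := congrArg Subtype.val e
  exact this ▸ hpS

variable (hN : Hyp G)
include hN

theorem Hyp.exists_centInv (S : Sylow 2 G) : ∃ z ∈ centInv S, z ≠ 1 := by
  obtain ⟨z, -, hzS, -, hz, -, -, hzc, -⟩ := hN.hH.reduced.exists_two_central S
  exact ⟨z, ⟨hzS, Involutions.Basic.inv_sq_one hz, hzc⟩, Involutions.Basic.ne_one hz⟩

/-- A central involution lies in one Sylow subgroup. -/
theorem Hyp.eq_of_centInv {S T : Sylow 2 G} {z : G} (hz : z ∈ centInv S) (h1 : z ≠ 1)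
    (hT : z ∈ (T : Subgroup G)) : S = T :=
  hN.hH.unique_of_solvable S T (orderOf_of_sq hz.2.1 h1)
    (hN.solv S z (orderOf_of_sq hz.2.1 h1) hz.1 hz.2.2) hz.1 hT

theorem Hyp.cen_le_of_centInv {S : Sylow 2 G} {z : G} (hz : z ∈ centInv S) (h1 : z ≠ 1) :
    cen z ≤ normalizer ((S : Subgroup G) : Set G) :=
  hN.hH.cen_le_of_solvable S (orderOf_of_sq hz.2.1 h1) hz.1
    (hN.solv S z (orderOf_of_sq hz.2.1 h1) hz.1 hz.2.2)

include d

theorem not_le_normalizer : ¬ cen t ≤ normalizer ((S : Subgroup G) : Set G) := by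
  haveI := Fact.mk Nat.prime_two
  intro h
  obtain ⟨T, hT⟩ := d.data.exists_other
  obtain ⟨l, hl⟩ := MulAction.exists_smul_eq ↥d.L d.SL T
  refine hT (hl ▸ Sylow.smul_eq_iff_mem_normalizer.2 ?_)
  refine mem_normalizer_iff.2 ?_
  obtain ⟨g, hg, hgl⟩ := exists_pr d (l : d.Q)
  have key : ∀ g' ∈ cen t, ∀ a : ↥d.L, a ∈ (d.SL : Subgroup ↥d.L) →
      pr d g' * (a : d.Q) * (pr d g')⁻¹ ∈ PL d := by
    intro g' hg' a ha
    obtain ⟨x, hx, e⟩ := exists_tr d (coe_mem d ha)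
    rw [← e, ← pr_conj d hg' hx.2]
    exact pr_mem d (mk_tr ((mem_normalizer_iff.1 (h hg') x).1 hx.1)
      (mul_mem (mul_mem hg' (tr_cen hx)) (inv_mem hg')))
  have back : ∀ b : ↥d.L, (b : d.Q) ∈ PL d → b ∈ (d.SL : Subgroup ↥d.L) := by
    intro b hb
    obtain ⟨a, ha, e⟩ := exists_SL d hb
    exact Subtype.ext e ▸ ha
  intro a
  constructor
  · intro ha
    exact back _ (by simpa [hgl] using key g hg a ha)
  · intro ha
    refine back _ ?_
    have h2 := key g⁻¹ (inv_mem hg) _ ha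
    rw [pr_inv d hg, hgl] at h2
    simpa [mul_assoc] using h2

theorem nonsolvable : ¬ Group.IsSolvable ↥(cen t) := fun h =>
  not_le_normalizer d hN (hN.hH.cen_le_of_solvable S d.ht d.htS h)

theorem not_central : ¬ ∀ s ∈ (S : Subgroup G), Commute t s := fun h =>
  nonsolvable d hN (hN.solv S t d.ht d.htS h)

theorem ne_t {T : Sylow 2 G} {z : G} (hz : z ∈ centInv T) : z ≠ t := by
  rintro rfl
  exact nonsolvable d hN (hN.solv T z d.ht hz.1 hz.2.2)

theorem t_notMem : t ∉ centInv S := fun h => ne_t d hN h rfl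

theorem centInv_le : centInv S ≤ tr S t := fun _ hz => mem_tr.2 ⟨hz.1, hz.2.2 t d.htS⟩

theorem pr_ne_one {z : G} (hz : z ∈ centInv S) (h1 : z ≠ 1) : pr d z ≠ 1 := fun h =>
  (eq_or_eq_of_sq d (centInv_le d hN hz) hz.2.1 h).elim h1 (ne_t d hN hz)

theorem pr_injOn {z w : G} (hz : z ∈ centInv S) (hw : w ∈ centInv S) (h : pr d z = pr d w) :
    z = w := by
  by_contra hne
  refine pr_ne_one d hN (mul_mem hz (inv_mem hw)) (fun e => hne (mul_inv_eq_one.1 e)) ?_
  rw [pr_mul d (centInv_le d hN hz).2 (centInv_le d hN (inv_mem hw)).2,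
    pr_inv d (centInv_le d hN hw).2, h, mul_inv_cancel]

/-- Elements over the normalizer of the image normalise `S`. -/
theorem mem_normalizer {g : G} (hg : g ∈ cen t) (h : pr d g ∈ normalizer (PL d : Set d.Q)) :
    g ∈ normalizer ((S : Subgroup G) : Set G) := by
  have key : ∀ x ∈ tr S t, g * x * g⁻¹ ∈ (S : Subgroup G) := by
    intro x hx
    obtain ⟨k, hk⟩ := S.isPGroup' ⟨x, hx.1⟩
    refine mem_of_pow d (mul_mem (mul_mem hg (tr_cen hx)) (inv_mem hg)) (k := k) ?_ ?_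
    · rw [conj_pow, show x ^ (2 ^ k) = 1 from congrArg Subtype.val hk, mul_one, mul_inv_cancel]
    · rw [pr_conj d hg hx.2]; exact (mem_normalizer_iff.1 h _).1 (pr_mem d hx)
  obtain ⟨z, hz, hz1⟩ := hN.exists_centInv S
  refine Sylow.smul_eq_iff_mem_normalizer.1 ?_
  have ht' : g * t * g⁻¹ = t := by rw [(mem_cent.1 hg).eq, mul_inv_cancel_right]
  refine hN.hH.reduced.cycInt.eq_of_two (conj_mem_smul g hz.1)
    (key z (centInv_le d hN hz)) (ht' ▸ conj_mem_smul g d.htS) d.htS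
    (by rw [Involutions.Basic.orderOf_conj]; exact orderOf_of_sq hz.2.1 hz1) d.ht fun e => ?_
  exact ne_t d hN hz (mul_left_cancel (mul_right_cancel (e.trans ht'.symm)))

theorem pr_normalizer {g : G} (hg : g ∈ cen t) (h : g ∈ normalizer ((S : Subgroup G) : Set G)) :
    pr d g ∈ normalizer (PL d : Set d.Q) := by
  have key : ∀ g' ∈ cen t, g' ∈ normalizer ((S : Subgroup G) : Set G) → ∀ y ∈ PL d,
      pr d g' * y * (pr d g')⁻¹ ∈ PL d := by
    intro g' hg' h' y hy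
    obtain ⟨x, hx, rfl⟩ := exists_tr d hy
    rw [← pr_conj d hg' hx.2]
    exact pr_mem d (mk_tr ((mem_normalizer_iff.1 h' x).1 hx.1)
      (mul_mem (mul_mem hg' (tr_cen hx)) (inv_mem hg')))
  rw [mem_normalizer_iff]
  refine fun y => ⟨key g hg h y, fun hy => ?_⟩
  have h2 := key g⁻¹ (inv_mem hg) (inv_mem h) _ hy
  rw [pr_inv d hg] at h2
  simpa [mul_assoc] using h2

/-- An element of odd order of the normalizer of the image lifts to one of `N(S) ⊓ C(t)`. -/
theorem exists_odd_lift {y : d.Q} (hy : y ∈ normalizer (PL d : Set d.Q)) (ho : Odd (orderOf y)) :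
    ∃ g ∈ cen t, g ∈ normalizer ((S : Subgroup G) : Set G) ∧ Odd (orderOf g) ∧ pr d g = y := by
  obtain ⟨g₀, hg₀, e⟩ := exists_pr d y
  set a := (orderOf g₀).factorization 2 with ha
  set m := orderOf g₀ / 2 ^ a with hm
  have hn : orderOf g₀ = 2 ^ a * m := (Nat.ordProj_mul_ordCompl_eq_self _ 2).symm
  have hmodd : Odd m := by
    rw [← Nat.not_even_iff_odd, even_iff_two_dvd]
    exact Nat.not_dvd_ordCompl Nat.prime_two (orderOf_pos g₀).ne'
  have hmpos : 0 < m := hmodd.pos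
  set k := (2 ^ a) ^ Nat.totient m with hk
  have hk1 : k ≡ 1 [MOD m] :=
    Nat.ModEq.pow_totient ((Nat.coprime_two_left.2 hmodd).pow_left a)
  have hy' : y ^ k = y := by
    have hd : orderOf y ∣ m := by
      have h2 : orderOf y ∣ orderOf g₀ := orderOf_dvd_of_pow_eq_one (by
        rw [← e, ← pr_pow d hg₀, pow_orderOf_eq_one, pr_one])
      rw [hn] at h2
      exact (Nat.Coprime.dvd_of_dvd_mul_left ((Nat.coprime_two_right.2 ho).pow_right a) h2)
    conv_rhs => rw [← pow_one y]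
    exact pow_eq_pow_iff_modEq.2 (hk1.of_dvd hd)
  have hgm : (g₀ ^ k) ^ m = 1 := by
    rw [← pow_mul]
    refine orderOf_dvd_iff_pow_eq_one.1 ?_
    rw [hn]
    exact Nat.mul_dvd_mul (dvd_pow_self _ (Nat.totient_pos.2 hmpos).ne') dvd_rfl
  have hpr : pr d (g₀ ^ k) = y := by rw [pr_pow d hg₀, e, hy']
  exact ⟨g₀ ^ k, pow_mem hg₀ k, mem_normalizer d hN (pow_mem hg₀ k) (hpr ▸ hy),
    hmodd.of_dvd_nat (orderOf_dvd_of_pow_eq_one hgm), hpr⟩

/-- The torus element. -/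
theorem exists_torus : ∃ g ∈ cen t, g ∈ normalizer ((S : Subgroup G) : Set G) ∧
    Odd (orderOf g) ∧ ∃ τ : ↥d.L, (∀ x y : ↥d.L, x ∈ (d.SL : Subgroup ↥d.L) →
      y ∈ (d.SL : Subgroup ↥d.L) → orderOf x = 2 → orderOf y = 2 →
        ∃ j : ℕ, τ ^ j * x * (τ ^ j)⁻¹ = y) ∧
      (d.i = 3 → (∀ H : Subgroup ↥d.L, H ≤ (d.SL : Subgroup ↥d.L) →
          (∀ x ∈ (d.SL : Subgroup ↥d.L), x * x = 1 → x ∈ H) → (∀ x ∈ H, τ * x * τ⁻¹ ∈ H) →
          (∃ x ∈ H, x * x ≠ 1) → H = (d.SL : Subgroup ↥d.L)) ∧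
        (∃ j : ℕ, τ ^ j ≠ 1 ∧
          ∀ x ∈ (d.SL : Subgroup ↥d.L), orderOf x = 2 → Commute (τ ^ j) x) ∧
        (∀ j : ℕ, τ ^ j ≠ 1 → (∀ x ∈ (d.SL : Subgroup ↥d.L), orderOf x = 2 → Commute (τ ^ j) x) →
          ∀ x ∈ (d.SL : Subgroup ↥d.L), Commute (τ ^ j) x → x * x = 1)) ∧
      pr d g = (τ : d.Q) := by
  obtain ⟨τ, hτ, ho, h1, h2⟩ := d.data.torus
  have hτ' : (τ : d.Q) ∈ normalizer (PL d : Set d.Q) := by
    rw [show PL d = _ from Central.trace_eq d]
    exact le_normalizer_map d.L.subtype ⟨τ, hτ, rfl⟩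
  obtain ⟨g, hg, hgN, hgo, hgp⟩ :=
    exists_odd_lift d hN hτ' (by rw [Subgroup.orderOf_coe]; exact ho)
  exact ⟨g, hg, hgN, hgo, τ, h1, h2, hgp⟩

/-- The torus is transitive on the central involutions of `S`. -/
theorem exists_transitive : ∃ g ∈ cen t, g ∈ normalizer ((S : Subgroup G) : Set G) ∧
    Odd (orderOf g) ∧ (∀ y ∈ PL d, ∀ y' ∈ PL d, y * y = 1 → y' * y' = 1 → y ≠ 1 → y' ≠ 1 →
      ∃ j : ℕ, pr d (g ^ j) * y * (pr d (g ^ j))⁻¹ = y') := by
  obtain ⟨g, hg, hgN, hgo, τ, h1, -, e⟩ := exists_torus d hN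
  refine ⟨g, hg, hgN, hgo, fun y hy y' hy' hy2 hy2' hy1 hy1' => ?_⟩
  obtain ⟨a, ha, rfl⟩ := exists_SL d hy
  obtain ⟨b, hb, rfl⟩ := exists_SL d hy'
  obtain ⟨j, hj⟩ := h1 a b ha hb
    (Involutions.Basic.orderOf_two_iff.2 ⟨Subtype.ext hy2, fun h => hy1 (by rw [h]; rfl)⟩)
    (Involutions.Basic.orderOf_two_iff.2 ⟨Subtype.ext hy2', fun h => hy1' (by rw [h]; rfl)⟩)
  refine ⟨j, ?_⟩
  rw [pr_pow d hg, e, ← hj]
  simp

/-- The involutions of the image come from `centInv S`. -/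
theorem exists_centInv_pr {y : d.Q} (hy : y ∈ PL d) (h : y * y = 1) :
    ∃ z ∈ centInv S, pr d z = y := by
  by_cases h1 : y = 1
  · exact ⟨1, one_mem _, by rw [h1, pr_one]⟩
  obtain ⟨z, hz, hz1⟩ := hN.exists_centInv S
  obtain ⟨g, hg, hgN, -, hj⟩ := exists_transitive d hN
  have hzc := centInv_le d hN hz
  obtain ⟨j, hj⟩ := hj _ (pr_mem d hzc) y hy
    (by rw [← pr_mul d hzc.2 hzc.2, hz.2.1, pr_one]) h (pr_ne_one d hN hz hz1) h1
  exact ⟨g ^ j * z * (g ^ j)⁻¹, conj_centInv (pow_mem hgN j) hz,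
    by rw [pr_conj d (pow_mem hg j) hzc.2, hj]⟩

theorem card_centInv : Nat.card ↥(centInv S) = 2 ^ d.n := by
  rw [← ncard_sq d, ← SetLike.coe_sort_coe, Nat.card_coe_set_eq]
  refine Set.ncard_congr (fun z _ => pr d z) (fun z hz => ⟨pr_mem d (centInv_le d hN hz), ?_⟩)
    (fun z w hz hw h => pr_injOn d hN hz hw h) (fun y hy => ?_)
  · rw [← pr_mul d (centInv_le d hN hz).2 (centInv_le d hN hz).2, hz.2.1, pr_one]
  · obtain ⟨z, hz, e⟩ := exists_centInv_pr d hN hy.1 hy.2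
    exact ⟨z, hz, e⟩

theorem same_n {T : Sylow 2 G} {u : G} (d' : Comp T u) : d'.n = d.n := by
  haveI := Fact.mk Nat.prime_two
  obtain ⟨g, rfl⟩ := MulAction.exists_smul_eq G S T
  have h := card_centInv_smul g S
  rw [card_centInv d' hN, card_centInv d hN] at h
  exact Nat.pow_right_injective le_rfl h

/-- Some element of `S` normalising the trace moves `t`. -/
theorem exists_moving : ∃ n ∈ (S : Subgroup G), (∀ x ∈ tr S t, n * x * n⁻¹ ∈ tr S t) ∧
    ∃ w ∈ centInv S, w ≠ 1 ∧ n * t * n⁻¹ = t * w := by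
  haveI := Fact.mk Nat.prime_two
  haveI : Group.IsNilpotent ↥(S : Subgroup G) := S.isPGroup'.isNilpotent
  have hlt : (tr S t).subgroupOf (S : Subgroup G) < ⊤ := by
    refine lt_top_iff_ne_top.2 fun h => not_central d hN fun x hx => ?_
    have : (⟨x, hx⟩ : ↥(S : Subgroup G)) ∈ (tr S t).subgroupOf (S : Subgroup G) := h ▸ mem_top _
    exact (mem_tr.1 this).2.symm
  obtain ⟨⟨n, hnS⟩, hnN, hn⟩ :=
    SetLike.exists_of_lt (Group.normalizerCondition_of_isNilpotent _ hlt)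
  have hconj : ∀ x ∈ tr S t, n * x * n⁻¹ ∈ tr S t := fun x hx =>
    (mem_normalizer_iff.1 hnN ⟨x, hx.1⟩).1 hx
  refine ⟨n, hnS, hconj, ?_⟩
  have hnc : ¬ Commute n t := fun h => hn (mem_tr.2 ⟨hnS, h⟩)
  set u := n * t * n⁻¹ with hu
  have huT : u ∈ tr S t := hconj t ⟨d.htS, t_mem_cen⟩
  have hu2 : u * u = 1 := by
    rw [hu, show n * t * n⁻¹ * (n * t * n⁻¹) = n * (t * t) * n⁻¹ by group,
      Involutions.Basic.inv_sq_one d.ht, mul_one, mul_inv_cancel]
  obtain ⟨z, hz, e⟩ := exists_centInv_pr d hN (pr_mem d huT)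
    (by rw [← pr_mul d huT.2 huT.2, hu2, pr_one])
  have hzc := centInv_le d hN hz
  have hk : pr d (u * z) = 1 := by
    rw [pr_mul d huT.2 hzc.2, ← e, ← pr_mul d hzc.2 hzc.2, hz.2.1, pr_one]
  rcases eq_or_eq_of_sq d (mul_mem huT hzc)
    (by rw [(hz.2.2 u huT.1).mul_mul_mul_comm, hu2, hz.2.1, one_mul]) hk with h | h
  · -- `u` would be central
    exfalso
    have : u = z := by
      rw [eq_inv_of_mul_eq_one_left h, inv_eq_of_mul_eq_one_left hz.2.1]
    refine t_notMem d hN ?_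
    have h' := conj_centInv (le_normalizer (inv_mem hnS)) (this ▸ hz : u ∈ centInv S)
    simpa [hu, mul_assoc] using h'
  · refine ⟨z, hz, fun e1 => hnc ?_, ?_⟩
    · rw [e1, mul_one] at h
      exact mul_inv_eq_iff_eq_mul.1 h
    · show u = t * z
      rw [← h, mul_assoc, hz.2.1, mul_one]

/-- `t` is conjugate in `S` to all its products with central involutions. -/
theorem exists_translate {w : G} (hw : w ∈ centInv S) :
    ∃ n ∈ (S : Subgroup G), (∀ x ∈ tr S t, n * x * n⁻¹ ∈ tr S t) ∧ n * t * n⁻¹ = t * w := by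
  by_cases hw1 : w = 1
  · exact ⟨1, one_mem _, fun x hx => by simpa using hx, by simp [hw1]⟩
  obtain ⟨n, hn, hconj, z, hz, hz1, hnt⟩ := exists_moving d hN
  obtain ⟨g, hg, hgN, -, hj⟩ := exists_transitive d hN
  have hzc := centInv_le d hN hz
  have hwc := centInv_le d hN hw
  obtain ⟨j, hj⟩ := hj _ (pr_mem d hzc) _ (pr_mem d hwc)
    (by rw [← pr_mul d hzc.2 hzc.2, hz.2.1, pr_one])
    (by rw [← pr_mul d hwc.2 hwc.2, hw.2.1, pr_one]) (pr_ne_one d hN hz hz1)
    (pr_ne_one d hN hw hw1)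
  have hh : g ^ j ∈ cen t := pow_mem hg j
  have hhN := pow_mem hgN j
  have hzw : g ^ j * z * (g ^ j)⁻¹ = w :=
    pr_injOn d hN (conj_centInv hhN hz) hw (by rw [pr_conj d hh hzc.2, hj])
  have hht : g ^ j * t * (g ^ j)⁻¹ = t := by rw [(mem_cent.1 hh).eq, mul_inv_cancel_right]
  refine ⟨g ^ j * n * (g ^ j)⁻¹, (mem_normalizer_iff.1 hhN n).1 hn, fun x hx => ?_, ?_⟩
  · have h1 : (g ^ j)⁻¹ * x * g ^ j ∈ tr S t := by
      refine mk_tr ?_ (mul_mem (mul_mem (inv_mem hh) (tr_cen hx)) hh)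
      have := (mem_normalizer_iff.1 (inv_mem hhN) x).1 hx.1
      rwa [inv_inv] at this
    have h2 := hconj _ h1
    rw [show g ^ j * n * (g ^ j)⁻¹ * x * (g ^ j * n * (g ^ j)⁻¹)⁻¹ =
      g ^ j * (n * ((g ^ j)⁻¹ * x * g ^ j) * n⁻¹) * (g ^ j)⁻¹ by group]
    exact mk_tr ((mem_normalizer_iff.1 hhN _).1 h2.1) (mul_mem (mul_mem hh (tr_cen h2)) (inv_mem hh))
  · calc g ^ j * n * (g ^ j)⁻¹ * t * (g ^ j * n * (g ^ j)⁻¹)⁻¹
        = g ^ j * (n * ((g ^ j)⁻¹ * (g ^ j * t * (g ^ j)⁻¹) * g ^ j) * n⁻¹) * (g ^ j)⁻¹ := by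
          rw [hht]; group
      _ = g ^ j * (n * t * n⁻¹) * (g ^ j)⁻¹ := by group
      _ = g ^ j * t * (g ^ j)⁻¹ * (g ^ j * z * (g ^ j)⁻¹) := by rw [hnt]; group
      _ = t * w := by rw [hht, hzw]

/-- The kernel of the projection on the trace is `⟨t⟩`. -/
theorem eq_or_eq_of_pr {x : G} (hx : x ∈ tr S t) (h : pr d x = 1) : x = 1 ∨ x = t := by
  by_cases h2 : x * x = 1
  · exact eq_or_eq_of_sq d hx h2 h
  exfalso
  -- an element with square `t` in the kernel
  obtain ⟨k, hk⟩ := S.isPGroup' ⟨x, hx.1⟩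
  have hk' : x ^ (2 ^ k) = 1 := congrArg Subtype.val hk
  have main : ∀ (k : ℕ) (x : G), x ∈ tr S t → pr d x = 1 → x * x ≠ 1 → x ^ (2 ^ k) = 1 → False := by
    intro k
    induction k with
    | zero => intro x _ _ h2 h; exact h2 (by rw [pow_zero, pow_one] at h; rw [h, one_mul])
    | succ k ih =>
      intro x hx hpr h2 hpow
      by_cases h4 : x * x * (x * x) = 1
      · have hsq : x * x = t := (eq_or_eq_of_sq d (mul_mem hx hx) h4
          (by rw [pr_mul d hx.2 hx.2, hpr, one_mul])).resolve_left h2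
        obtain ⟨n, hn, hconj, w, hw, hw1, hnt⟩ := exists_moving d hN
        have hv := hconj x hx
        have hvc : ∀ p ∈ PL d, Commute (pr d (n * x * n⁻¹)) p := by
          intro p hp
          obtain ⟨y, hy, rfl⟩ := exists_tr d hp
          have hny : n⁻¹ * y * n ∈ tr S t := by
            have hinj : Function.Injective (fun a : ↥(tr S t) =>
                (⟨n * a * n⁻¹, hconj a a.2⟩ : ↥(tr S t))) := fun a b e =>
              Subtype.ext (mul_left_cancel (mul_right_cancel (congrArg Subtype.val e :)))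
            obtain ⟨⟨a, ha⟩, e⟩ := (Finite.injective_iff_surjective.1 hinj) ⟨y, hy⟩
            have e' : n * a * n⁻¹ = y := congrArg Subtype.val e
            rw [← e']; simpa [mul_assoc] using ha
          have hcx : Commute x (n⁻¹ * y * n) :=
            congrArg Subtype.val (d.ker_central ⟨x, hx.2⟩
              (MonoidHom.mem_ker.2 ((pr_eq d hx.2).symm.trans hpr)) hx.1 ⟨_, hny.2⟩ hny.1).eq
          have hc' : Commute (n * x * n⁻¹) y := by
            show n * x * n⁻¹ * y = y * (n * x * n⁻¹)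
            calc n * x * n⁻¹ * y = n * (x * (n⁻¹ * y * n)) * n⁻¹ := by group
              _ = n * ((n⁻¹ * y * n) * x) * n⁻¹ := by rw [hcx.eq]
              _ = y * (n * x * n⁻¹) := by group
          show _ * _ = _ * _
          rw [← pr_mul d hv.2 hy.2, ← pr_mul d hy.2 hv.2, hc'.eq]
        have h1 := sq_of_central d (pr_mem d hv) hvc
        rw [← pr_mul d hv.2 hv.2,
          show n * x * n⁻¹ * (n * x * n⁻¹) = n * (x * x) * n⁻¹ by group, hsq, hnt,
          pr_mul d t_mem_cen (centInv_le d hN hw).2, pr_t, one_mul] at h1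
        exact pr_ne_one d hN hw hw1 h1
      · refine ih (x * x) (mul_mem hx hx) (by rw [pr_mul d hx.2 hx.2, hpr, one_mul]) h4 ?_
        rw [← pow_two, ← pow_mul, ← pow_succ']
        exact hpow
  exact main k x hx h h2 hk'

/-- Each involution of the trace is central in `S` up to `t`. -/
theorem sq_cases {x : G} (hx : x ∈ tr S t) (h : x * x = 1) :
    x ∈ centInv S ∨ t * x ∈ centInv S := by
  obtain ⟨z, hz, e⟩ := exists_centInv_pr d hN (pr_mem d hx)
    (by rw [← pr_mul d hx.2 hx.2, h, pr_one])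
  have hzc := centInv_le d hN hz
  rcases eq_or_eq_of_pr d hN (mul_mem hx hzc)
    (by rw [pr_mul d hx.2 hzc.2, ← e, ← pr_mul d hzc.2 hzc.2, hz.2.1, pr_one]) with h1 | h1
  · refine Or.inl ?_
    rwa [show x = z by rw [eq_inv_of_mul_eq_one_left h1, inv_eq_of_mul_eq_one_left hz.2.1]]
  · refine Or.inr ?_
    rwa [show t * x = z by
      rw [← h1, mul_assoc, (hz.2.2 x hx.1).eq, ← mul_assoc, h, one_mul]]

/-- Squares of the trace. -/
theorem sq_mem {x : G} (hx : x ∈ tr S t) : x * x ∈ centInv S ∨ t * (x * x) ∈ centInv S := by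
  refine sq_cases d hN (mul_mem hx hx) ?_
  rcases eq_or_eq_of_pr d hN (mul_mem (mul_mem hx hx) (mul_mem hx hx))
    (by rw [pr_mul d (mul_mem hx hx).2 (mul_mem hx hx).2, pr_mul d hx.2 hx.2, sq_sq d (pr_mem d hx)])
    with h | h
  · exact h
  · obtain ⟨z, hz, e⟩ := exists_centInv_pr d hN (mul_mem (pr_mem d hx) (pr_mem d hx))
      (sq_sq d (pr_mem d hx))
    have hzc := centInv_le d hN hz
    rcases eq_or_eq_of_pr d hN (mul_mem (mul_mem hx hx) hzc)
      (by rw [pr_mul d (mul_mem hx hx).2 hzc.2, pr_mul d hx.2 hx.2, ← e, ← pr_mul d hzc.2 hzc.2,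
        hz.2.1, pr_one]) with h' | h'
    · rw [show x * x = z by rw [eq_inv_of_mul_eq_one_left h', inv_eq_of_mul_eq_one_left hz.2.1],
        hz.2.1]
    · rw [show x * x = t * z by rw [← h', mul_assoc, hz.2.1, mul_one],
        (hz.2.2 t d.htS).mul_mul_mul_comm, Involutions.Basic.inv_sq_one d.ht, hz.2.1, one_mul]

theorem card_tr : Nat.card ↥(tr S t) = 2 * (2 ^ d.n) ^ d.i := by
  haveI := Fact.mk Nat.prime_two
  let f : ↥(tr S t) →* d.Q :=
    { toFun := fun x => pr d x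
      map_one' := pr_one d
      map_mul' := fun x y => pr_mul d x.2.2 y.2.2 }
  have hrange : f.range = PL d := by
    ext y
    constructor
    · rintro ⟨x, rfl⟩; exact pr_mem d x.2
    · intro hy
      obtain ⟨x, hx, e⟩ := exists_tr d hy
      exact ⟨⟨x, hx⟩, e⟩
  have hker : Nat.card ↥f.ker = 2 := by
    rw [Nat.card_eq_two_iff]
    refine ⟨1, ⟨⟨t, d.htS, t_mem_cen⟩, pr_t d⟩, fun e => ne_one_of_two d.ht
      (congrArg (fun z : ↥f.ker => ((z : ↥(tr S t)) : G)) e).symm, ?_⟩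
    rw [Set.eq_univ_iff_forall]
    rintro ⟨⟨x, hx⟩, hk⟩
    rcases eq_or_eq_of_pr d hN hx hk with rfl | rfl
    · exact Or.inl rfl
    · exact Or.inr rfl
  rw [← f.ker.card_mul_index, hker, index_ker, hrange, card_PL d]

/-- A Sylow subgroup containing `t` is conjugate to `S` under the centraliser. -/
theorem exists_smul {T : Sylow 2 G} (hT : t ∈ (T : Subgroup G)) : ∃ g ∈ cen t, g • S = T := by
  haveI := Fact.mk Nat.prime_two
  obtain ⟨z, hz, hz1⟩ := hN.exists_centInv T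
  have hzt : z ∈ cen t := mem_cent.2 (hz.2.2 t hT)
  obtain ⟨P, hP⟩ := d.sylow
  let K : Subgroup ↥(cen t) := (T : Subgroup G).subgroupOf (cen t)
  have hK : IsPGroup 2 K := T.isPGroup'.comap_subtype
  obtain ⟨R, hR⟩ := hK.exists_le_sylow
  obtain ⟨c, hc⟩ := MulAction.exists_smul_eq ↥(cen t) R P
  refine ⟨(c⁻¹ : ↥(cen t)), (c⁻¹ : ↥(cen t)).2, ?_⟩
  have key : ∀ x ∈ (T : Subgroup G), x ∈ cen t →
      x ∈ ((((c⁻¹ : ↥(cen t)) : G) • S : Sylow 2 G) : Subgroup G) := by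
    intro x hxT hxc
    have h := conj_mem_smul c (hR (show (⟨x, hxc⟩ : ↥(cen t)) ∈ K from hxT))
    rw [hc, hP] at h
    rw [mem_smul]
    simpa [mem_subgroupOf] using h
  exact hN.hH.reduced.cycInt.eq_of_two (key z hz.1 hzt) hz.1 (key t hT t_mem_cen) hT
    (orderOf_of_sq hz.2.1 hz1) d.ht (ne_t d hN hz)

end Cfsg.Agent.CyclicSylowInter.Noncentral
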