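import Cfsg.Agent.Lib.CyclicSylowInter.Noncentral.Basic

/-!
# The noncentral branch: counting Sylow subgroups

There are `(s + 1)(1 + s(q - 1))` Sylow subgroups, the involutions lying in two of them are all
conjugate, and a congruence for the number of those in a subgroup of `S`.
-/

set_option autoImplicit false
set_option linter.style.haveILetI false
set_option linter.unusedSectionVars false

namespace Cfsg.Agent.CyclicSylowInter.Noncentral

open Subgroup
open scoped Pointwise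
open Cfsg.Agent.ZStar.CyclicIntersections

universe u

attribute [local instance] Comp.grp Comp.fin

variable {G : Type u} [Group G] [Finite G] {S : Sylow 2 G} {t : G}

theorem natCard_sigma_const {α : Type*} {β : α → Type*} [Finite α] [∀ a, Finite (β a)] {k : ℕ}
    (h : ∀ a, Nat.card (β a) = k) : Nat.card (Σ a, β a) = Nat.card α * k := by
  haveI := Fintype.ofFinite α
  rw [Nat.card_sigma, Finset.sum_congr rfl fun a _ => h a, Finset.sum_const, Finset.card_univ,
    smul_eq_mul, Nat.card_eq_fintype_card]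

theorem mem_of_normalizer {T : Sylow 2 G} {x : G} {k : ℕ} (hk : x ^ (2 ^ k) = 1)
    (h : x ∈ normalizer ((T : Subgroup G) : Set G)) : x ∈ (T : Subgroup G) := by
  haveI := Fact.mk Nat.prime_two
  have hP : IsPGroup 2 (zpowers x) := fun y => by
    obtain ⟨z, hz⟩ := y.2
    refine ⟨k, Subtype.ext ?_⟩
    rw [SubgroupClass.coe_pow, OneMemClass.coe_one, ← hz]
    show (x ^ z) ^ (2 ^ k) = 1
    rw [← zpow_natCast (x ^ z), ← zpow_mul, mul_comm, zpow_mul, zpow_natCast, hk, one_zpow]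
  have hmem : x ∈ zpowers x ⊓ normalizer ((T : Subgroup G) : Set G) := ⟨mem_zpowers x, h⟩
  exact (le_of_eq (hP.inf_normalizer_sylow T) hmem).2

/-- The members of `S` conjugate to `t`. -/
def cls (S : Sylow 2 G) (t : G) : Set G := {x | x ∈ (S : Subgroup G) ∧ IsConj t x}

theorem card_smul_mem (g : G) (x : G) :
    Nat.card {T : Sylow 2 G // g * x * g⁻¹ ∈ (T : Subgroup G)} =
      Nat.card {T : Sylow 2 G // x ∈ (T : Subgroup G)} := by
  refine (Nat.card_congr ((MulAction.toPerm g).subtypeEquiv fun T => ?_)).symm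
  refine ⟨fun h => conj_mem_smul g h, fun h => ?_⟩
  have h' := mem_smul.1 h
  simpa [mul_assoc] using h'

variable (d : Comp S t) (hN : Hyp G)
include d hN

theorem nonsolvable_conj {x : G} (hx : IsConj t x) : ¬ Group.IsSolvable ↥(cen x) := by
  intro hs
  obtain ⟨g, hg⟩ := isConj_iff.1 hx
  have e : (cen x).comap (MulAut.conj g).toMonoidHom = cen t := by
    ext c
    rw [mem_comap, mem_cent, mem_cent, MulEquiv.coe_toMonoidHom, MulAut.conj_apply, ← hg]
    constructor
    · intro h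
      have := h.map (MulAut.conj g⁻¹).toMonoidHom
      simpa [mul_assoc] using this
    · exact fun h => h.map (MulAut.conj g).toMonoidHom
  refine nonsolvable d hN (e ▸ ?_)
  haveI := hs
  exact Group.isSolvable_of_isSolvable_injective (f := (MulAut.conj g).toMonoidHom.subgroupComap (cen x))
    fun a b h => Subtype.ext ((MulAut.conj g).injective (congrArg Subtype.val h :))

/-- Every conjugate of `t` has the structure in each Sylow subgroup containing it. -/
theorem comp_of_conj {T : Sylow 2 G} {x : G} (hx : IsConj t x) (hT : x ∈ (T : Subgroup G)) :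
    Nonempty (Comp T x) := by
  obtain ⟨g, hg⟩ := isConj_iff.1 hx
  exact hN.comp T x (by rw [← hg, Involutions.Basic.orderOf_conj, d.ht]) hT
    (nonsolvable_conj d hN hx)

theorem isConj_mul {T : Sylow 2 G} {w : G} (hT : t ∈ (T : Subgroup G)) (hw : w ∈ centInv T) :
    IsConj t (t * w) ∧ t * w ∈ (T : Subgroup G) := by
  obtain ⟨dT⟩ := comp_of_conj d hN (IsConj.refl t) hT
  obtain ⟨n, -, -, e⟩ := exists_translate dT hN hw
  exact ⟨isConj_iff.2 ⟨n, e⟩, mul_mem hT hw.1⟩

/-- The part of any Sylow subgroup in the centraliser lies in a Sylow subgroup containing `t`. -/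
theorem exists_cover (T : Sylow 2 G) : ∃ g ∈ cen t, t ∈ ((g • S : Sylow 2 G) : Subgroup G) ∧
    ∀ x ∈ (T : Subgroup G), x ∈ cen t → x ∈ ((g • S : Sylow 2 G) : Subgroup G) := by
  haveI := Fact.mk Nat.prime_two
  obtain ⟨P, hP⟩ := d.sylow
  let K : Subgroup ↥(cen t) := (T : Subgroup G).subgroupOf (cen t)
  have hK : IsPGroup 2 K := T.isPGroup'.comap_subtype
  obtain ⟨R, hR⟩ := hK.exists_le_sylow
  obtain ⟨c, hc⟩ := MulAction.exists_smul_eq ↥(cen t) R P
  refine ⟨(c⁻¹ : ↥(cen t)), (c⁻¹ : ↥(cen t)).2, ?_, fun x hxT hxc => ?_⟩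
  · have h := conj_mem_smul ((c⁻¹ : ↥(cen t)) : G) d.htS
    rwa [(mem_cent.1 (c⁻¹ : ↥(cen t)).2).eq, mul_inv_cancel_right] at h
  · have h := conj_mem_smul c (hR (show (⟨x, hxc⟩ : ↥(cen t)) ∈ K from hxT))
    rw [hc, hP] at h
    rw [mem_smul]
    simpa [mem_subgroupOf] using h

/-- An involution commuting with `t`. -/
theorem inv_cases {m : G} (hm : orderOf m = 2) (hc : Commute m t) :
    m = t ∨ ∃ T : Sylow 2 G, t ∈ (T : Subgroup G) ∧ m ∈ (T : Subgroup G) ∧
      (m ∈ centInv T ∨ t * m ∈ centInv T ∧ t * m ≠ 1) := by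
  by_cases h1 : m = t
  · exact Or.inl h1
  obtain ⟨A, hA⟩ := exists_sylow_mem hm
  obtain ⟨g, -, htT, hcov⟩ := exists_cover d hN A
  set T := g • S
  have hmT := hcov m hA (mem_cent.2 hc)
  obtain ⟨dT⟩ := comp_of_conj d hN (IsConj.refl t) htT
  refine Or.inr ⟨T, htT, hmT, ?_⟩
  rcases sq_cases dT hN (mem_tr.2 ⟨hmT, hc⟩) (Involutions.Basic.inv_sq_one hm) with h | h
  · exact Or.inl h
  · refine Or.inr ⟨h, fun e => h1 ?_⟩
    rw [eq_inv_of_mul_eq_one_right e, Involutions.Basic.inv_eq d.ht]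

/-- A Sylow subgroup avoiding `t` meets the centraliser in at most one involution. -/
theorem eq_of_meet {T : Sylow 2 G} (hT : t ∉ (T : Subgroup G)) {x y : G}
    (hx : orderOf x = 2) (hy : orderOf y = 2) (hxT : x ∈ (T : Subgroup G))
    (hyT : y ∈ (T : Subgroup G)) (hxc : Commute x t) (hyc : Commute y t) : x = y := by
  obtain ⟨g, -, htT, hcov⟩ := exists_cover d hN T
  by_contra hne
  refine hT ?_
  rw [hN.hH.reduced.cycInt.eq_of_two hxT (hcov x hxT (mem_cent.2 hxc)) hyT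
    (hcov y hyT (mem_cent.2 hyc)) hx hy hne]
  exact htT

theorem card_fix : Nat.card {T : Sylow 2 G // t ∈ (T : Subgroup G)} = (2 ^ d.n) ^ d.i + 1 := by
  haveI := Fact.mk Nat.prime_two
  -- the number of Sylow subgroups of the simple normal subgroup
  have hL : Nat.card (Sylow 2 ↥d.L) = (2 ^ d.n) ^ d.i + 1 := by
    classical
    haveI := Fintype.ofFinite (Sylow 2 ↥d.L)
    obtain ⟨T₀, hT₀⟩ := d.data.exists_other
    have hne : ∀ s : ↥(d.SL : Subgroup ↥d.L), (s : ↥d.L) • T₀ ≠ d.SL := by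
      intro s e
      refine hT₀ ?_
      rw [← inv_smul_smul (s : ↥d.L) T₀, e]
      exact Sylow.smul_eq_iff_mem_normalizer.2 (inv_mem (le_normalizer s.2))
    have e : ↥(d.SL : Subgroup ↥d.L) ≃ {T : Sylow 2 ↥d.L // T ≠ d.SL} :=
      Equiv.ofBijective (fun s => ⟨(s : ↥d.L) • T₀, hne s⟩) ⟨fun a b h =>
        (d.data.regular T₀ _ hT₀ (hne a)).unique rfl (congrArg Subtype.val h :).symm,
        fun T => by
          obtain ⟨s, hs, -⟩ := d.data.regular T₀ T hT₀ T.2
          exact ⟨s, Subtype.ext hs⟩⟩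
    rw [← Fintype.card_eq_nat_card, ← d.data.card_sylow, Nat.card_congr e,
      Nat.card_eq_fintype_card, Fintype.card_subtype_compl, Fintype.card_subtype_eq]
    have : 1 ≤ Fintype.card (Sylow 2 ↥d.L) := Fintype.card_pos
    omega
  obtain ⟨P, hP⟩ := d.sylow
  set PQ : Sylow 2 d.Q := P.mapSurjective d.surj with hPQ
  have hPQc : (PQ : Subgroup d.Q) = PL d := by
    rw [hPQ, Sylow.coe_mapSurjective, hP]; rfl
  have hle : ∀ T : Sylow 2 d.Q, (T : Subgroup d.Q) ≤ d.L := by
    intro T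
    obtain ⟨g, rfl⟩ := MulAction.exists_smul_eq d.Q PQ T
    haveI := d.normal
    intro x hx
    have h : g⁻¹ * x * g ∈ d.L := by
      have h' : g⁻¹ * x * g ∈ (PQ : Subgroup d.Q) := by
        have := (Subgroup.mem_pointwise_smul_iff_inv_smul_mem).1 hx
        simpa [MulAut.smul_def] using this
      rw [hPQc] at h'
      obtain ⟨a, -, ha⟩ := exists_SL d h'
      exact ha ▸ a.2
    have := ‹d.L.Normal›.conj_mem _ h g
    simpa [mul_assoc] using this
  have hQ : Nat.card (Sylow 2 d.Q) = Nat.card (Sylow 2 ↥d.L) := by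
    refine Nat.card_congr (Equiv.ofBijective (fun T => T.subtype (hle T))
      ⟨fun a b h => Sylow.subtype_injective h, fun U => ?_⟩)
    have hb : PQ.subtype (hle PQ) = d.SL := by
      ext x
      show (x : d.Q) ∈ (PQ : Subgroup d.Q) ↔ x ∈ (d.SL : Subgroup ↥d.L)
      rw [hPQc]
      refine ⟨fun h => ?_, fun h => coe_mem d h⟩
      obtain ⟨a, ha, e⟩ := exists_SL d h
      exact Subtype.ext e ▸ ha
    obtain ⟨l, rfl⟩ := MulAction.exists_smul_eq ↥d.L d.SL U
    exact ⟨l • PQ, by rw [← hb, Sylow.smul_subtype]⟩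
  -- the orbit of the centraliser
  have horb : {T : Sylow 2 G | t ∈ (T : Subgroup G)} = MulAction.orbit ↥(cen t) S := by
    ext T
    constructor
    · intro hT
      obtain ⟨g, hg, e⟩ := exists_smul d hN hT
      exact ⟨⟨g, hg⟩, e⟩
    · rintro ⟨⟨g, hg⟩, rfl⟩
      have h := conj_mem_smul g d.htS
      rw [(mem_cent.1 hg).eq, mul_inv_cancel_right] at h
      exact h
  have hstab : MulAction.stabilizer ↥(cen t) S = (normalizer (PL d : Set d.Q)).comap d.π := by
    ext ⟨g, hg⟩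
    rw [MulAction.mem_stabilizer_iff, mem_comap, ← pr_eq d hg]
    show g • S = S ↔ _
    rw [Sylow.smul_eq_iff_mem_normalizer]
    exact ⟨pr_normalizer d hN hg, mem_normalizer d hN hg⟩
  show Nat.card ↥{T : Sylow 2 G | t ∈ (T : Subgroup G)} = _
  rw [horb, Nat.card_congr (MulAction.orbitEquivQuotientStabilizer ↥(cen t) S), hstab]
  show ((normalizer (PL d : Set d.Q)).comap d.π).index = _
  rw [index_comap_of_surjective _ d.surj, ← hL, ← hQ, ← hPQc, PQ.card_eq_index_normalizer]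
  rfl

theorem card_fix_conj {x : G} (hx : IsConj t x) :
    Nat.card {T : Sylow 2 G // x ∈ (T : Subgroup G)} = (2 ^ d.n) ^ d.i + 1 := by
  obtain ⟨g, rfl⟩ := isConj_iff.1 hx
  rw [card_smul_mem, card_fix d hN]

/-- The number of Sylow subgroups. -/
theorem card_sylow : Nat.card (Sylow 2 G) =
    ((2 ^ d.n) ^ d.i + 1) * (1 + (2 ^ d.n) ^ d.i * (2 ^ d.n - 1)) := by
  classical
  haveI := Fact.mk Nat.prime_two
  haveI := Fintype.ofFinite (Sylow 2 G)
  set q := 2 ^ d.n with hq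
  set s := q ^ d.i with hs
  let F := {T : Sylow 2 G // t ∈ (T : Subgroup G)}
  let I := Σ T₀ : F, {w : G // w ∈ centInv (T₀ : Sylow 2 G) ∧ w ≠ 1}
  let B : I → Type _ := fun p =>
    {T : Sylow 2 G // t * (p.2 : G) ∈ (T : Subgroup G) ∧ T ≠ (p.1 : Sylow 2 G)}
  have hW : ∀ T₀ : F, Nat.card {w : G // w ∈ centInv (T₀ : Sylow 2 G) ∧ w ≠ 1} = q - 1 := by
    intro T₀
    obtain ⟨g, -, e⟩ := exists_smul d hN T₀.2
    have hc : Nat.card ↥(centInv (T₀ : Sylow 2 G)) = q := by
      rw [← e, card_centInv_smul, card_centInv d hN]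
    show Nat.card ↥(((centInv (T₀ : Sylow 2 G) : Set G)) \ {1}) = _
    rw [Nat.card_coe_set_eq, Set.ncard_sdiff_singleton_of_mem (one_mem _),
      ← Nat.card_coe_set_eq]
    exact congrArg (· - 1) hc
  have hB : ∀ p : I, Nat.card (B p) = s := by
    rintro ⟨T₀, w, hw, hw1⟩
    obtain ⟨hconj, hmem⟩ := isConj_mul d hN T₀.2 hw
    show Nat.card ↥({T : Sylow 2 G | t * w ∈ (T : Subgroup G)} \ {(T₀ : Sylow 2 G)}) = s
    rw [Nat.card_coe_set_eq, Set.ncard_sdiff_singleton_of_mem (show (T₀ : Sylow 2 G) ∈ {T : Sylow 2 G | t * w ∈ (T : Subgroup G)} from hmem), ← Nat.card_coe_set_eq]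
    exact Nat.sub_eq_of_eq_add (card_fix_conj d hN hconj)
  have hout : ∀ (p : I) (T : B p), t ∉ ((T : Sylow 2 G) : Subgroup G) := by
    rintro ⟨T₀, w, hw, hw1⟩ ⟨T, hT, hne⟩ htT
    refine hne ((hN.eq_of_centInv hw hw1 ?_).symm)
    have := mul_mem htT hT
    rwa [← mul_assoc, Involutions.Basic.inv_sq_one d.ht, one_mul] at this
  have hinv : ∀ p : I, orderOf (t * (p.2 : G)) = 2 ∧ Commute (t * (p.2 : G)) t := by
    rintro ⟨T₀, w, hw, hw1⟩
    obtain ⟨hconj, -⟩ := isConj_mul d hN T₀.2 hw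
    obtain ⟨g, hg⟩ := isConj_iff.1 hconj
    exact ⟨by rw [← hg, Involutions.Basic.orderOf_conj, d.ht],
      (Commute.refl t).mul_left (hw.2.2 t T₀.2)⟩
  have hbij : Function.Bijective
      (fun x : Σ p : I, B p => (⟨(x.2 : Sylow 2 G), hout x.1 x.2⟩ :
        {T : Sylow 2 G // t ∉ (T : Subgroup G)})) := by
    constructor
    · rintro ⟨p, T⟩ ⟨p', T'⟩ h
      have hTT : (T : Sylow 2 G) = (T' : Sylow 2 G) := congrArg Subtype.val h
      have h1 : (p.2 : G) = p'.2 := mul_left_cancel (eq_of_meet d hN (hout p T) (hinv p).1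
        (hinv p').1 T.2.1 (hTT ▸ T'.2.1) (hinv p).2 (hinv p').2)
      obtain ⟨⟨T₀, hT₀⟩, w, hw, hw1⟩ := p
      obtain ⟨⟨T₀', hT₀'⟩, w', hw', hw1'⟩ := p'
      obtain rfl : w = w' := h1
      obtain rfl : T₀ = T₀' := hN.eq_of_centInv hw hw1 hw'.1
      obtain ⟨T, hT⟩ := T
      obtain ⟨T', hT'⟩ := T'
      obtain rfl : T = T' := hTT
      rfl
    · rintro ⟨T, hT⟩
      obtain ⟨z, hz, hz1⟩ := hN.exists_centInv T
      have hzo := orderOf_of_sq hz.2.1 hz1
      have hncj : ¬ IsConj t z := fun h =>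
        nonsolvable_conj d hN h (hN.solv T z hzo hz.1 hz.2.2)
      obtain ⟨hm, hmt, hmz⟩ := Involutions.Basic.middle_involution d.ht hzo
        (Involutions.Basic.even_orderOf_mul_of_not_isConj d.ht hzo hncj)
      set m := (t * z) ^ (orderOf (t * z) / 2)
      have hmT : m ∈ (T : Subgroup G) :=
        mem_of_normalizer (k := 1) (by rw [pow_one, pow_two]; exact Involutions.Basic.inv_sq_one hm)
          (hN.cen_le_of_centInv hz hz1 (mem_cent.2 hmz))
      rcases inv_cases d hN hm hmt with h | ⟨T₀, hT₀, hmT₀, h | ⟨h, h1⟩⟩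
      · exact absurd (h ▸ hmT) hT
      · exact absurd (hN.eq_of_centInv h (ne_one_of_two hm) hmT ▸ hT₀) hT
      · refine ⟨⟨⟨⟨T₀, hT₀⟩, t * m, h, h1⟩, T, ?_, ?_⟩, rfl⟩
        · show t * (t * m) ∈ (T : Subgroup G)
          rw [← mul_assoc, Involutions.Basic.inv_sq_one d.ht, one_mul]; exact hmT
        · rintro rfl; exact hT hT₀
  have h1 := Nat.card_eq_of_bijective _ hbij
  have hI : Nat.card I = (s + 1) * (q - 1) := by
    rw [natCard_sigma_const hW, card_fix d hN]
  rw [natCard_sigma_const hB, hI, Nat.card_eq_fintype_card (α := {T : Sylow 2 G // ¬ _}),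
    Fintype.card_subtype_compl, ← Nat.card_eq_fintype_card, ← Nat.card_eq_fintype_card,
    card_fix d hN] at h1
  have hle : s + 1 ≤ Nat.card (Sylow 2 G) :=
    (card_fix d hN).symm.le.trans (Nat.card_le_card_of_injective _ Subtype.val_injective)
  have h2 : Nat.card (Sylow 2 G) = (s + 1) + (s + 1) * (q - 1) * s := by
    rw [← hq, ← hs] at h1
    omega
  rw [h2]; ring

theorem q_ge : 4 ≤ 2 ^ d.n :=
  le_trans (by norm_num) (Nat.pow_le_pow_right two_pos d.data.two_le)

/-- All these involutions have the same parameters. -/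
theorem same_i {T : Sylow 2 G} {x : G} (d' : Comp T x) : d'.i = d.i := by
  have h1 := card_sylow d hN
  have h2 := card_sylow d' hN
  rw [same_n d hN d', h1] at h2
  have hq := q_ge d hN
  have key : ∀ a b : ℕ, a < b →
      ((2 ^ d.n) ^ a + 1) * (1 + (2 ^ d.n) ^ a * (2 ^ d.n - 1)) <
        ((2 ^ d.n) ^ b + 1) * (1 + (2 ^ d.n) ^ b * (2 ^ d.n - 1)) := by
    intro a b hab
    have h3 : (2 ^ d.n) ^ a < (2 ^ d.n) ^ b := Nat.pow_lt_pow_right (by omega) hab
    exact Nat.mul_lt_mul_of_lt_of_le (by omega)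
      (Nat.add_le_add_left (Nat.mul_le_mul_right _ h3.le) 1) (by positivity)
  rcases lt_trichotomy d'.i d.i with h | h | h
  · exact absurd h2.symm (key _ _ h).ne
  · exact h
  · exact absurd h2 (key _ _ h).ne

/-- All the involutions in two Sylow subgroups are conjugate. -/
theorem one_class {T : Sylow 2 G} {v : G} (dv : Comp T v) : IsConj t v := by
  classical
  haveI := Fact.mk Nat.prime_two
  by_contra hne
  set q := 2 ^ d.n with hq
  set s := q ^ d.i with hs
  have hfixv : ∀ x, IsConj v x → Nat.card {U : Sylow 2 G // x ∈ (U : Subgroup G)} = s + 1 :=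
    fun x hx => by
      rw [card_fix_conj dv hN hx, same_n d hN dv, same_i d hN dv]
  let X := {x : G // IsConj v x}
  let c := fun U : Sylow 2 G => Nat.card {x : X // (x : G) ∈ (U : Subgroup G)}
  have hc : ∀ U, c U = c T := by
    intro U
    obtain ⟨g, rfl⟩ := MulAction.exists_smul_eq G T U
    refine (Nat.card_congr (Equiv.ofBijective (fun x : {x : X // (x : G) ∈ (T : Subgroup G)} =>
      (⟨⟨g * x.1.1 * g⁻¹, x.1.2.trans (isConj_iff.2 ⟨g, rfl⟩)⟩, conj_mem_smul g x.2⟩ :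
        {x : X // (x : G) ∈ ((g • T : Sylow 2 G) : Subgroup G)})) ⟨fun a b h => ?_, fun y => ?_⟩)).symm
    · exact Subtype.ext (Subtype.ext
        (mul_left_cancel (mul_right_cancel (congrArg (fun z => z.1.1) h :))))
    · exact ⟨⟨⟨g⁻¹ * y.1.1 * g, y.1.2.trans (isConj_iff.2 ⟨g⁻¹, by rw [inv_inv]⟩)⟩,
        mem_smul.1 y.2⟩, Subtype.ext (Subtype.ext (by simp [mul_assoc]))⟩
  have hpos : 0 < c T := by
    haveI : Nonempty {x : X // (x : G) ∈ (T : Subgroup G)} := ⟨⟨⟨v, IsConj.refl v⟩, dv.htS⟩⟩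
    exact Nat.card_pos
  have hdc : Nat.card (Sylow 2 G) * c T = Nat.card X * (s + 1) := by
    rw [← natCard_sigma_const (fun U => hc U), ← natCard_sigma_const (fun x : X => hfixv x x.2)]
    exact Nat.card_congr
      { toFun := fun p => ⟨p.2.1, p.1, p.2.2⟩
        invFun := fun p => ⟨p.2.1, p.1, p.2.2⟩
        left_inv := fun _ => rfl
        right_inv := fun _ => rfl }
  -- each conjugate of `v` lies with `t` in some Sylow subgroup
  have hcov : ∀ x : X, ∃ U : Sylow 2 G, t ∈ (U : Subgroup G) ∧ (x : G) ∈ (U : Subgroup G) := by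
    rintro ⟨x, hx⟩
    obtain ⟨g, hg⟩ := isConj_iff.1 hx
    have hxo : orderOf x = 2 := by rw [← hg, Involutions.Basic.orderOf_conj, dv.ht]
    obtain ⟨hm, hmt, hmx⟩ := Involutions.Basic.middle_involution d.ht hxo
      (Involutions.Basic.even_orderOf_mul_of_not_isConj d.ht hxo fun h => hne (h.trans hx.symm))
    set m := (t * x) ^ (orderOf (t * x) / 2)
    have hcomm : Commute x t → ∃ U : Sylow 2 G, t ∈ (U : Subgroup G) ∧ x ∈ (U : Subgroup G) := by
      intro h
      obtain ⟨A, h1, h2⟩ := exists_sylow_pair d.ht hxo h.symm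
      exact ⟨A, h1, h2⟩
    rcases inv_cases d hN hm hmt with h | ⟨U, hU, hmU, h | ⟨h, h1⟩⟩
    · exact hcomm (h ▸ hmx).symm
    · exact ⟨U, hU, mem_of_normalizer (k := 1)
        (by rw [pow_one, pow_two]; exact Involutions.Basic.inv_sq_one hxo)
        (hN.cen_le_of_centInv h (ne_one_of_two hm) (mem_cent.2 hmx.symm))⟩
    · exfalso
      have htm : IsConj t m := by
        have := (isConj_mul d hN hU h).1
        rwa [← mul_assoc, Involutions.Basic.inv_sq_one d.ht, one_mul] at this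
      obtain ⟨dm⟩ := comp_of_conj d hN htm hmU
      rcases inv_cases dm hN hxo hmx.symm with e | ⟨U', hU', hxU', h' | ⟨h', -⟩⟩
      · exact hne (htm.trans (e ▸ hx.symm))
      · exact nonsolvable_conj dv hN hx (hN.solv U' x hxo hxU' h'.2.2)
      · have := (isConj_mul dm hN hU' h').1
        rw [← mul_assoc, Involutions.Basic.inv_sq_one hm, one_mul] at this
        exact hne ((htm.trans this).trans hx.symm)
  have hle : Nat.card X ≤ (s + 1) * c T := by
    rw [← card_fix d hN, ← natCard_sigma_const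
      (fun U : {U : Sylow 2 G // t ∈ (U : Subgroup G)} => hc U)]
    refine Nat.card_le_card_of_surjective (fun p => p.2.1) fun x => ?_
    obtain ⟨U, h1, h2⟩ := hcov x
    exact ⟨⟨⟨U, h1⟩, x, h2⟩, rfl⟩
  have h1 : Nat.card (Sylow 2 G) * c T ≤ (s + 1) * c T * (s + 1) :=
    hdc ▸ Nat.mul_le_mul_right _ hle
  rw [mul_right_comm (s + 1) (c T) (s + 1)] at h1
  have h2 := Nat.le_of_mul_le_mul_right h1 hpos
  rw [card_sylow d hN, ← hq, ← hs] at h2
  have h3 := Nat.le_of_mul_le_mul_left h2 (by omega : 0 < s + 1)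
  have h4 : s * 3 ≤ s * (q - 1) := Nat.mul_le_mul_left _ (by have := q_ge d hN; omega)
  have h5 : 1 ≤ s := Nat.one_le_pow _ _ (by have := q_ge d hN; omega)
  omega

/-- An involution of `S` in another Sylow subgroup is conjugate to `t`. -/
theorem mem_cls {T : Sylow 2 G} (hT : T ≠ S) {x : G} (hx : orderOf x = 2)
    (hxS : x ∈ (S : Subgroup G)) (hxT : x ∈ (T : Subgroup G)) : x ∈ cls S t := by
  obtain ⟨dx⟩ := hN.comp S x hx hxS fun h => hT (hN.hH.unique_of_solvable S T hx h hxS hxT).symm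
  exact ⟨hxS, one_class d hN dx⟩

/-- The congruence for the conjugates of `t` in a subgroup of `S`. -/
theorem congr {H : Subgroup G} (hH : H ≤ (S : Subgroup G)) :
    ∃ m, Nat.card (Sylow 2 G) =
      1 + (cls S t ∩ (H : Set G)).ncard * (2 ^ d.n) ^ d.i + m * Nat.card ↥H := by
  classical
  haveI := Fact.mk Nat.prime_two
  set s := (2 ^ d.n) ^ d.i with hs
  let A : Set G := cls S t ∩ (H : Set G)
  have hA2 : ∀ x ∈ A, orderOf x = 2 := by
    rintro x ⟨⟨-, hx⟩, -⟩
    obtain ⟨g, hg⟩ := isConj_iff.1 hx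
    rw [← hg, Involutions.Basic.orderOf_conj, d.ht]
  let B : Set (Sylow 2 G) := {T | T ≠ S ∧ ∃ x ∈ A, x ∈ (T : Subgroup G)}
  let R : Set (Sylow 2 G) := {T | T ≠ S ∧ ∀ x ∈ A, x ∉ (T : Subgroup G)}
  have hB : B.ncard = A.ncard * s := by
    have hfib : ∀ x : ↥A,
        Nat.card {T : Sylow 2 G // T ≠ S ∧ (x : G) ∈ (T : Subgroup G)} = s := by
      intro x
      have e : {T : Sylow 2 G | T ≠ S ∧ (x : G) ∈ (T : Subgroup G)} =
          {T : Sylow 2 G | (x : G) ∈ (T : Subgroup G)} \ {S} := by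
        ext T; exact and_comm
      show Nat.card ↥{T : Sylow 2 G | T ≠ S ∧ (x : G) ∈ (T : Subgroup G)} = s
      rw [Nat.card_coe_set_eq, e, Set.ncard_sdiff_singleton_of_mem (show S ∈ _ from x.2.1.1),
        ← Nat.card_coe_set_eq]
      exact Nat.sub_eq_of_eq_add (card_fix_conj d hN x.2.1.2)
    rw [← Nat.card_coe_set_eq A, ← natCard_sigma_const hfib, ← Nat.card_coe_set_eq B]
    refine (Nat.card_eq_of_bijective
      (fun p => (⟨p.2.1, p.2.2.1, p.1, p.1.2, p.2.2.2⟩ : ↥B)) ⟨?_, ?_⟩).symm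
    · rintro ⟨⟨x, hx⟩, T, hT⟩ ⟨⟨y, hy⟩, T', hT'⟩ h
      obtain rfl : T = T' := congrArg Subtype.val h
      obtain rfl : x = y := by
        by_contra hne
        exact hT.1 (hN.hH.reduced.cycInt.eq_of_two hT.2 hx.1.1 hT'.2 hy.1.1 (hA2 x hx) (hA2 y hy) hne)
      rfl
    · rintro ⟨T, hT, x, hx, hxT⟩
      exact ⟨⟨⟨x, hx⟩, T, hT, hxT⟩, rfl⟩
  -- `H` acts freely on the rest
  have hinv : ∀ h : ↥H, ∀ T ∈ R, (h : G) • T ∈ R := by
    rintro h T ⟨hT, hA⟩
    refine ⟨fun e => hT ?_, fun x hx hxT => ?_⟩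
    · rw [← inv_smul_smul (h : G) T, e]
      exact Sylow.smul_eq_iff_mem_normalizer.2 (inv_mem (le_normalizer (hH h.2)))
    · refine hA ((h : G)⁻¹ * x * h) ⟨⟨?_, hx.1.2.trans (isConj_iff.2 ⟨(h : G)⁻¹, by rw [inv_inv]⟩)⟩,
        mul_mem (mul_mem (inv_mem h.2) hx.2) h.2⟩ (mem_smul.1 hxT)
      exact mul_mem (mul_mem (inv_mem (hH h.2)) hx.1.1) (hH h.2)
  letI : MulAction ↥H ↥R :=
    { smul := fun h T => ⟨(h : G) • T.1, hinv h T.1 T.2⟩
      one_smul := fun T => Subtype.ext (one_smul G T.1)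
      mul_smul := fun a b T => Subtype.ext (mul_smul (a : G) (b : G) T.1) }
  have hfree : ∀ T : ↥R, MulAction.stabilizer ↥H T = ⊥ := by
    rintro ⟨T, hTS, hA⟩
    rw [eq_bot_iff]
    rintro ⟨h, hh⟩ hst
    rw [mem_bot]
    by_contra hne
    have hfix : h • T = T := congrArg Subtype.val (MulAction.mem_stabilizer_iff.1 hst)
    obtain ⟨k, hk⟩ := S.isPGroup' ⟨h, hH hh⟩
    have hhT : h ∈ (T : Subgroup G) := mem_of_normalizer (k := k) (congrArg Subtype.val hk)
      (Sylow.smul_eq_iff_mem_normalizer.1 hfix)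
    have hne1 : h ≠ 1 := fun e => hne (Subtype.ext e)
    obtain ⟨j, hj⟩ : ∃ j, orderOf h = 2 ^ (j + 1) := by
      obtain ⟨j, -, hj⟩ := (Nat.dvd_prime_pow Nat.prime_two).1
        (orderOf_dvd_of_pow_eq_one (congrArg Subtype.val hk : h ^ (2 ^ k) = 1))
      cases j with
      | zero => exact absurd (orderOf_eq_one_iff.1 hj) hne1
      | succ j => exact ⟨j, hj⟩
    have hu : orderOf (h ^ (2 ^ j)) = 2 := by
      rw [orderOf_pow_of_dvd (by positivity) (hj ▸ pow_dvd_pow 2 (Nat.le_succ j)), hj, pow_succ,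
        Nat.mul_div_cancel_left _ (Nat.two_pow_pos j)]
    exact hA _ ⟨mem_cls d hN hTS hu (pow_mem (hH hh) _) (pow_mem hhT _), pow_mem hh _⟩
      (pow_mem hhT _)
  have hR : Nat.card ↥H ∣ R.ncard := by
    refine ⟨Nat.card (Quotient (MulAction.orbitRel ↥H ↥R)), ?_⟩
    rw [← Nat.card_coe_set_eq,
      Nat.card_congr (MulAction.selfEquivSigmaOrbitsQuotientStabilizer ↥H ↥R),
      natCard_sigma_const (k := Nat.card ↥H) fun ω => ?_, mul_comm]
    show (MulAction.stabilizer ↥H ω.out).index = _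
    rw [hfree, index_bot]
  obtain ⟨m, hm⟩ := hR
  refine ⟨m, ?_⟩
  have hsplit : B.ncard + R.ncard + 1 = Nat.card (Sylow 2 G) := by
    have hdisj : Disjoint B R := Set.disjoint_left.2 fun T hTB hTR => by
      obtain ⟨x, hx, hxT⟩ := hTB.2
      exact hTR.2 x hx hxT
    rw [← Set.ncard_union_eq hdisj, ← Set.ncard_univ,
      show (Set.univ : Set (Sylow 2 G)) = insert S (B ∪ R) from ?_,
      Set.ncard_insert_of_notMem (fun h => h.elim (fun h => h.1 rfl) fun h => h.1 rfl)]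
    refine (Set.eq_univ_of_forall fun T => ?_).symm
    by_cases hT : T = S
    · exact Or.inl hT
    by_cases hex : ∃ x ∈ A, x ∈ (T : Subgroup G)
    · exact Or.inr (Or.inl ⟨hT, hex⟩)
    · exact Or.inr (Or.inr ⟨hT, fun x hx h => hex ⟨x, hx, h⟩⟩)
  rw [← hsplit, hB, hm, mul_comm (Nat.card ↥H) m]
  ring

theorem cls_mul_le : (cls S t).ncard * (2 ^ d.n) ^ d.i + 1 ≤ Nat.card (Sylow 2 G) := by
  obtain ⟨m, hm⟩ := congr d hN (le_refl (S : Subgroup G))
  rw [show cls S t ∩ ((S : Subgroup G) : Set G) = cls S t from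
    Set.inter_eq_left.2 fun x hx => hx.1] at hm
  omega

end Cfsg.Agent.CyclicSylowInter.Noncentral
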