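import Mathlib

/-!
# An automorphism without fixed points on a group of odd order of linear maps

If `T` normalises a group `Γ` of odd order of invertible linear maps of a space of dimension `d`
over the field with two elements and no `T ^ j`, `0 < j ≤ d`, fixes a non-identity element of `Γ`,
then `Γ` is trivial: conjugating the characteristic equation of `T` by `Γ` and adding up gives
that the norm of `Γ` is the identity.
-/

set_option autoImplicit false
set_option linter.style.haveILetI false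
set_option linter.unusedSectionVars false

namespace Cfsg.Agent.CyclicSylowInter.Noncentral

open Polynomial

theorem norm_trick {V : Type*} [AddCommGroup V] [Module (ZMod 2) V] [Finite V]
    (T : (Module.End (ZMod 2) V)ˣ) (Γ : Subgroup (Module.End (ZMod 2) V)ˣ) [Finite Γ]
    (hodd : Odd (Nat.card Γ)) (hT : ∀ g ∈ Γ, T * g * T⁻¹ ∈ Γ)
    (hfix : ∀ j : ℕ, 0 < j → j ≤ Module.finrank (ZMod 2) V → ∀ g ∈ Γ,
      T ^ j * g * (T ^ j)⁻¹ = g → g = 1) : Γ = ⊥ := by
  classical
  haveI : Fact (Nat.Prime 2) := ⟨Nat.prime_two⟩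
  haveI := Fintype.ofFinite Γ
  set p := LinearMap.charpoly (T : Module.End (ZMod 2) V) with hp
  set d := p.natDegree with hd
  have hdle : d ≤ Module.finrank (ZMod 2) V := le_of_eq (LinearMap.charpoly_natDegree _)
  have hTj : ∀ (j : ℕ), ∀ g ∈ Γ, T ^ j * g * (T ^ j)⁻¹ ∈ Γ := by
    intro j
    induction j with
    | zero => intro g hg; simpa using hg
    | succ j ih =>
      intro g hg
      rw [show T ^ (j + 1) * g * (T ^ (j + 1))⁻¹ = T * (T ^ j * g * (T ^ j)⁻¹) * T⁻¹ by
        rw [pow_succ' T j, mul_inv_rev]; simp only [mul_assoc]]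
      exact hT _ (ih g hg)
  -- the relation
  have hrel : (T : Module.End (ZMod 2) V) ^ d +
      ∑ j ∈ Finset.range d, p.coeff j • (T : Module.End (ZMod 2) V) ^ j = 0 := by
    have h := LinearMap.aeval_self_charpoly (T : Module.End (ZMod 2) V)
    rw [(LinearMap.charpoly_monic _ : p.Monic).as_sum, map_add, map_pow, aeval_X,
      map_sum] at h
    rw [← hd] at h
    refine Eq.trans ?_ h
    congr 1
    refine Finset.sum_congr rfl fun j _ => ?_
    rw [map_mul, aeval_C, map_pow, aeval_X, Algebra.smul_def]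
  set N : Module.End (ZMod 2) V := ∑ g : Γ, ((g : (Module.End (ZMod 2) V)ˣ) : Module.End (ZMod 2) V)
    with hN
  -- the conjugated relation
  have hterm : ∀ (g : Γ) (j : ℕ),
      ((T ^ d * g * (T ^ d)⁻¹ : (Module.End (ZMod 2) V)ˣ) : Module.End (ZMod 2) V) *
        ((T : Module.End (ZMod 2) V) ^ j) *
          (((g : (Module.End (ZMod 2) V)ˣ))⁻¹ : (Module.End (ZMod 2) V)ˣ) =
      (((T ^ d * g * (T ^ d)⁻¹) * (T ^ j * (g : (Module.End (ZMod 2) V)ˣ)⁻¹ * (T ^ j)⁻¹) :
        (Module.End (ZMod 2) V)ˣ) : Module.End (ZMod 2) V) *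
        (T : Module.End (ZMod 2) V) ^ j := by
    intro g j
    simp only [← Units.val_pow_eq_pow_val, ← Units.val_mul]
    congr 1
    group
  have hsum : ∀ j < d, ∑ g : Γ,
      (((T ^ d * g * (T ^ d)⁻¹) * (T ^ j * (g : (Module.End (ZMod 2) V)ˣ)⁻¹ * (T ^ j)⁻¹) :
        (Module.End (ZMod 2) V)ˣ) : Module.End (ZMod 2) V) = N := by
    intro j hj
    let f : Γ → Γ := fun g => ⟨(T ^ d * g * (T ^ d)⁻¹) * (T ^ j * (g : (Module.End (ZMod 2) V)ˣ)⁻¹ * (T ^ j)⁻¹),
      mul_mem (hTj d g g.2) (hTj j _ (inv_mem g.2))⟩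
    have hf : Function.Injective f := by
      intro g h e
      have e' : T ^ d * (g : (Module.End (ZMod 2) V)ˣ) * (T ^ d)⁻¹ * (T ^ j * (g : (Module.End (ZMod 2) V)ˣ)⁻¹ * (T ^ j)⁻¹) =
          T ^ d * (h : (Module.End (ZMod 2) V)ˣ) * (T ^ d)⁻¹ * (T ^ j * (h : (Module.End (ZMod 2) V)ˣ)⁻¹ * (T ^ j)⁻¹) :=
        congrArg Subtype.val e
      have hx : T ^ (d - j) * ((h : (Module.End (ZMod 2) V)ˣ)⁻¹ * g) * (T ^ (d - j))⁻¹ =
          (h : (Module.End (ZMod 2) V)ˣ)⁻¹ * g := by
        rw [show d = j + (d - j) by omega, pow_add] at e'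
        set D := T ^ (d - j)
        set J := T ^ j
        generalize (g : (Module.End (ZMod 2) V)ˣ) = a at e' ⊢
        generalize (h : (Module.End (ZMod 2) V)ˣ) = b at e' ⊢
        have e2 : D * a * D⁻¹ * a⁻¹ = D * b * D⁻¹ * b⁻¹ := by
          have e3 := congrArg (fun x => J⁻¹ * x * J) e'
          simpa [mul_assoc] using e3
        calc D * (b⁻¹ * a) * D⁻¹ = (D * b * D⁻¹)⁻¹ * (D * a * D⁻¹ * a⁻¹) * a := by group
          _ = b⁻¹ * a := by rw [e2]; group
      have := hfix (d - j) (by omega) (by omega) _ (mul_mem (inv_mem h.2) g.2) hx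
      exact Subtype.ext (inv_mul_eq_one.1 this).symm
    exact Equiv.sum_comp (Equiv.ofBijective f ⟨hf, Finite.injective_iff_surjective.1 hf⟩)
      fun g : Γ => ((g : (Module.End (ZMod 2) V)ˣ) : Module.End (ZMod 2) V)
  have hconj : ∀ g : Γ, (T : Module.End (ZMod 2) V) ^ d + ∑ j ∈ Finset.range d, p.coeff j •
      ((((T ^ d * g * (T ^ d)⁻¹) * (T ^ j * (g : (Module.End (ZMod 2) V)ˣ)⁻¹ * (T ^ j)⁻¹) :
        (Module.End (ZMod 2) V)ˣ) : Module.End (ZMod 2) V) *
        (T : Module.End (ZMod 2) V) ^ j) = 0 := by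
    intro g
    have h := congrArg (fun x => ((T ^ d * g * (T ^ d)⁻¹ : (Module.End (ZMod 2) V)ˣ) :
      Module.End (ZMod 2) V) * x * (((g : (Module.End (ZMod 2) V)ˣ))⁻¹ : (Module.End (ZMod 2) V)ˣ))
      hrel
    simp only [mul_add, add_mul, mul_zero, zero_mul, Finset.mul_sum, Finset.sum_mul,
      mul_smul_comm, smul_mul_assoc, hterm] at h
    refine Eq.trans ?_ h
    congr 1
    rw [← Units.val_pow_eq_pow_val, ← Units.val_mul]
    congr 1
    group
  have htot : ((Nat.card Γ : ℕ) : ZMod 2) • (T : Module.End (ZMod 2) V) ^ d +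
      ∑ j ∈ Finset.range d, p.coeff j • (N * (T : Module.End (ZMod 2) V) ^ j) = 0 := by
    have h := Finset.sum_eq_zero (s := (Finset.univ : Finset Γ)) fun g _ => hconj g
    rw [Finset.sum_add_distrib, Finset.sum_const, Finset.card_univ, ← Nat.card_eq_fintype_card,
      ← Nat.cast_smul_eq_nsmul (ZMod 2), Finset.sum_comm] at h
    refine Eq.trans ?_ h
    congr 1
    refine Finset.sum_congr rfl fun j hj => ?_
    rw [← Finset.smul_sum, ← Finset.sum_mul, hsum j (Finset.mem_range.1 hj)]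
  have hN' : N * (T : Module.End (ZMod 2) V) ^ d +
      ∑ j ∈ Finset.range d, p.coeff j • (N * (T : Module.End (ZMod 2) V) ^ j) = 0 := by
    have h := congrArg (fun x => N * x) hrel
    simpa only [mul_add, Finset.mul_sum, mul_smul_comm, mul_zero] using h
  have hN1 : N = 1 := by
    have h := add_right_cancel (htot.trans hN'.symm)
    rw [ZMod.natCast_eq_one_iff_odd.2 hodd, one_smul, ← Units.val_pow_eq_pow_val] at h
    exact (Units.mul_left_inj (T ^ d)).1 (h.symm.trans (one_mul _).symm)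
  refine eq_bot_iff.2 fun g hg => ?_
  rw [Subgroup.mem_bot]
  refine Units.ext ?_
  have : (g : Module.End (ZMod 2) V) * N = N := by
    rw [hN, Finset.mul_sum]
    exact Equiv.sum_comp (Equiv.mulLeft (⟨g, hg⟩ : Γ))
      fun x : Γ => ((x : (Module.End (ZMod 2) V)ˣ) : Module.End (ZMod 2) V)
  rw [hN1, mul_one] at this
  rw [this, Units.val_one]

theorem arith_nineteen : ∀ a < 8, ∀ b < 8, ∀ l ∈ [19, 29, 43], 2 ^ a % l = 2 ^ b % l → a = b := by
  decide

/-- The small case: seven-power automorphism, at most `57` elements, dimension at most seven. -/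
theorem small_trick {V : Type*} [AddCommGroup V] [Module (ZMod 2) V] [Finite V]
    (hdim : Module.finrank (ZMod 2) V ≤ 7) (T : (Module.End (ZMod 2) V)ˣ)
    (Γ : Subgroup (Module.End (ZMod 2) V)ˣ) [Finite Γ] (hodd : Odd (Nat.card Γ))
    (hsize : Nat.card Γ ≤ 57) (hseven : IsPGroup 7 (Subgroup.zpowers T))
    (hT : ∀ g ∈ Γ, T * g * T⁻¹ ∈ Γ)
    (hfix : ∀ g ∈ Γ, T * g * T⁻¹ = g → g = 1) : Γ = ⊥ := by
  classical
  haveI : Fact (Nat.Prime 7) := ⟨by norm_num⟩
  by_contra hne
  haveI : Finite (Module.End (ZMod 2) V) := Module.finite_of_finite (ZMod 2)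
  have hle : Subgroup.zpowers T ≤ Subgroup.normalizer (Γ : Set (Module.End (ZMod 2) V)ˣ) := by
    rw [Subgroup.zpowers_le, Subgroup.mem_normalizer_iff]
    refine fun g => ⟨hT g, fun hg => ?_⟩
    let f : Γ → Γ := fun x => ⟨T * x * T⁻¹, hT x x.2⟩
    have hf : Function.Injective f := fun a b h =>
      Subtype.ext (mul_left_cancel (mul_right_cancel (congrArg Subtype.val h :)))
    obtain ⟨x, hx⟩ := (Finite.injective_iff_surjective.1 hf) ⟨_, hg⟩
    have hx' : T * (x : (Module.End (ZMod 2) V)ˣ) * T⁻¹ = T * g * T⁻¹ := congrArg Subtype.val hx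
    rw [← mul_left_cancel (mul_right_cancel hx')]
    exact x.2
  letI : MulAction ↥(Subgroup.zpowers T) ↥Γ :=
    { smul := fun a x => ⟨a.1 * x.1 * a.1⁻¹, (Subgroup.mem_normalizer_iff.1 (hle a.2) x.1).1 x.2⟩
      one_smul := fun x => Subtype.ext (by show (1 : (Module.End (ZMod 2) V)ˣ) * x.1 * 1⁻¹ = x.1; simp)
      mul_smul := fun a b x => Subtype.ext (by
        show (a.1 * b.1) * x.1 * (a.1 * b.1)⁻¹ = a.1 * (b.1 * x.1 * b.1⁻¹) * a.1⁻¹; group) }
  have hsmul : ∀ (a : ↥(Subgroup.zpowers T)) (x : ↥Γ),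
      ((a • x : ↥Γ) : (Module.End (ZMod 2) V)ˣ) = a.1 * x.1 * a.1⁻¹ := fun _ _ => rfl
  have hfp : ∀ x : ↥Γ, x ∈ MulAction.fixedPoints ↥(Subgroup.zpowers T) ↥Γ → x = 1 := by
    intro x hx
    refine Subtype.ext (hfix x.1 x.2 ?_)
    exact (hsmul ⟨T, Subgroup.mem_zpowers T⟩ x).symm.trans
      (congrArg Subtype.val (hx ⟨T, Subgroup.mem_zpowers T⟩))
  have hmod : Nat.card Γ % 7 = 1 := by
    have h := hseven.card_modEq_card_fixedPoints (α := ↥Γ)
    have he : MulAction.fixedPoints ↥(Subgroup.zpowers T) ↥Γ = {1} := by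
      refine Set.eq_singleton_iff_unique_mem.2 ⟨fun a => Subtype.ext ?_, hfp⟩
      rw [hsmul]; simp
    rw [he, Nat.card_coe_set_eq, Set.ncard_singleton] at h
    exact h
  have h1 : Nat.card Γ ≠ 1 := fun h => hne (Subgroup.card_eq_one.1 h)
  have hcases : Nat.card Γ = 15 ∨ Nat.card Γ = 29 ∨ Nat.card Γ = 43 ∨ Nat.card Γ = 57 := by
    obtain ⟨k, hk⟩ := hodd
    omega
  -- elements of the large prime orders act trivially
  have hbig : ∀ l ∈ [19, 29, 43], l ∣ Nat.card Γ → False := by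
    intro l hl hdvd
    haveI : Fact l.Prime := ⟨by fin_cases hl <;> norm_num⟩
    obtain ⟨x, hx⟩ := exists_prime_orderOf_dvd_card' l hdvd
    set γ : (Module.End (ZMod 2) V)ˣ := x.1 with hγ
    have hγo : orderOf γ = l := by rw [hγ, Subgroup.orderOf_coe, hx]
    have hP : IsPGroup l (Subgroup.zpowers γ) :=
      IsPGroup.of_card (n := 1) (by rw [Nat.card_zpowers, hγo, pow_one])
    let K : Submodule (ZMod 2) V := LinearMap.ker ((γ : Module.End (ZMod 2) V) - 1)
    have hmem : ∀ v, v ∈ MulAction.fixedPoints ↥(Subgroup.zpowers γ) V ↔ v ∈ K := by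
      intro v
      rw [LinearMap.mem_ker, LinearMap.sub_apply, sub_eq_zero, Module.End.one_apply]
      constructor
      · intro h; exact h ⟨γ, Subgroup.mem_zpowers γ⟩
      · rintro h ⟨a, ha⟩
        obtain ⟨m, rfl⟩ := Subgroup.mem_zpowers_iff.1 ha
        have hst : γ ∈ MulAction.stabilizer (Module.End (ZMod 2) V)ˣ v := h
        exact zpow_mem hst m
    have hmodV := hP.card_modEq_card_fixedPoints (α := V)
    have he : Nat.card (MulAction.fixedPoints ↥(Subgroup.zpowers γ) V) = Nat.card K :=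
      Nat.card_congr (Equiv.subtypeEquivRight hmem)
    rw [he, Module.natCard_eq_pow_finrank (K := ZMod 2) (V := V),
      Module.natCard_eq_pow_finrank (K := ZMod 2) (V := K), Nat.card_zmod] at hmodV
    have := arith_nineteen _ (by omega) _
      (lt_of_le_of_lt (Submodule.finrank_le K) (by omega)) l hl hmodV
    have htop : K = ⊤ := Submodule.eq_top_of_finrank_eq this.symm
    have hγ1 : γ = 1 := by
      refine Units.ext (LinearMap.ext fun v => ?_)
      have hv : v ∈ K := htop ▸ Submodule.mem_top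
      rw [LinearMap.mem_ker, LinearMap.sub_apply, sub_eq_zero] at hv
      exact hv
    rw [hγ1, orderOf_one] at hγo
    have := (Fact.out : l.Prime).one_lt
    omega
  rcases hcases with h | h | h | h
  · -- the unique subgroup of order three
    haveI : Fact (Nat.Prime 3) := ⟨by norm_num⟩
    let P : Sylow 3 ↥Γ := default
    have hn : Nat.card (Sylow 3 ↥Γ) = 1 := by
      have h1 := P.card_dvd_index
      have h2 := card_sylow_modEq_one 3 ↥Γ
      have hP3 : Nat.card ↥(P : Subgroup ↥Γ) = 3 := by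
        rw [P.card_eq_multiplicity, h, show (15 : ℕ).factorization 3 = 1 by
          rw [show (15 : ℕ) = 3 ^ 1 * 5 by norm_num, Nat.factorization_mul (by norm_num) (by norm_num),
            Finsupp.add_apply, Nat.Prime.factorization_pow (by norm_num), Finsupp.single_eq_same,
            Nat.factorization_eq_zero_of_not_dvd (by norm_num : ¬ 3 ∣ 5), add_zero], pow_one]
      have h3 : (P : Subgroup ↥Γ).index = 5 := by
        have := (P : Subgroup ↥Γ).card_mul_index
        rw [hP3, h] at this; omega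
      rw [h3] at h1
      rcases (Nat.dvd_prime (by norm_num)).1 h1 with e | e
      · exact e
      · exfalso; rw [e] at h2; exact absurd h2 (by decide)
    haveI : Subsingleton (Sylow 3 ↥Γ) := (Nat.card_eq_one_iff_unique.1 hn).1
    -- the points fixed by `T` in that subgroup
    have hinv : ∀ (a : ↥(Subgroup.zpowers T)) (x : ↥Γ),
        x ∈ {x : ↥Γ | x ^ 3 = 1} → a • x ∈ {x : ↥Γ | x ^ 3 = 1} := by
      intro a x hx
      have hx' : x.1 ^ 3 = 1 := by
        have := congrArg Subtype.val (hx : x ^ 3 = 1)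
        rwa [SubgroupClass.coe_pow] at this
      refine Subtype.ext ?_
      rw [SubgroupClass.coe_pow, hsmul, conj_pow, hx', mul_one, mul_inv_cancel]
      rfl
    letI : MulAction ↥(Subgroup.zpowers T) {x : ↥Γ // x ^ 3 = 1} :=
      { smul := fun a x => ⟨a • x.1, hinv a x.1 x.2⟩
        one_smul := fun x => Subtype.ext (one_smul _ x.1)
        mul_smul := fun a b x => Subtype.ext (mul_smul a b x.1) }
    have hmod3 := hseven.card_modEq_card_fixedPoints (α := {x : ↥Γ // x ^ 3 = 1})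
    have hP3 : Nat.card {x : ↥Γ // x ^ 3 = 1} ≤ 3 ∧ 1 < Nat.card {x : ↥Γ // x ^ 3 = 1} := by
      obtain ⟨k, hk⟩ := IsPGroup.iff_card.1 P.isPGroup'
      have hk3 : Nat.card ↥(P : Subgroup ↥Γ) = 3 := by
        have hd := (P : Subgroup ↥Γ).card_subgroup_dvd_card
        rw [hk, h] at hd
        obtain ⟨x, hx⟩ := exists_prime_orderOf_dvd_card' (G := ↥Γ) 3 (by rw [h]; norm_num)
        have hxP : x ∈ (P : Subgroup ↥Γ) := by
          obtain ⟨Q, hQ⟩ := (IsPGroup.of_card (G := ↥(Subgroup.zpowers x)) (n := 1)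
            (by rw [Nat.card_zpowers, hx, pow_one]) : IsPGroup 3 (Subgroup.zpowers x)).exists_le_sylow
          exact Subsingleton.elim Q P ▸ hQ (Subgroup.mem_zpowers x)
        have h3 : 3 ∣ 3 ^ k := by
          have := orderOf_dvd_natCard (⟨x, hxP⟩ : ↥(P : Subgroup ↥Γ))
          rwa [Subgroup.orderOf_mk, hx, hk] at this
        have hk2 : k < 2 := by
          by_contra hk2
          have : 3 ^ 2 ∣ 15 := (pow_dvd_pow 3 (by omega : 2 ≤ k)).trans hd
          omega
        have hk0 : k ≠ 0 := fun e => by rw [e] at h3; norm_num at h3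
        rw [hk, show k = 1 by omega, pow_one]
      constructor
      · refine le_trans (Nat.card_le_card_of_injective (fun x => (⟨x.1, ?_⟩ : ↥(P : Subgroup ↥Γ)))
          fun a b e => Subtype.ext (congrArg Subtype.val e :)) (le_of_eq hk3)
        obtain ⟨Q, hQ⟩ := (show IsPGroup 3 (Subgroup.zpowers x.1) from fun y => ⟨1, by
          obtain ⟨z, hz⟩ := y.2
          refine Subtype.ext ?_
          rw [SubgroupClass.coe_pow, OneMemClass.coe_one, pow_one, ← hz]
          show (x.1 ^ z) ^ 3 = 1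
          rw [← zpow_natCast, ← zpow_mul, mul_comm, zpow_mul, zpow_natCast, x.2, one_zpow]⟩).exists_le_sylow
        exact Subsingleton.elim Q P ▸ hQ (Subgroup.mem_zpowers x.1)
      · obtain ⟨x, hx⟩ := exists_prime_orderOf_dvd_card' (G := ↥Γ) 3 (by rw [h]; norm_num)
        rw [Finite.one_lt_card_iff_nontrivial]
        exact ⟨⟨1, one_pow 3⟩, ⟨x, orderOf_dvd_iff_pow_eq_one.1 (hx ▸ dvd_rfl)⟩, fun e => by
          have : (1 : ↥Γ) = x := congrArg Subtype.val e
          rw [← this, orderOf_one] at hx; norm_num at hx⟩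
    have hle1 : Nat.card (MulAction.fixedPoints ↥(Subgroup.zpowers T) {x : ↥Γ // x ^ 3 = 1}) ≤ 1 := by
      rw [Finite.card_le_one_iff_subsingleton]
      refine ⟨fun a b => Subtype.ext (Subtype.ext ?_)⟩
      rw [hfp a.1.1 fun c => congrArg Subtype.val (a.2 c), hfp b.1.1 fun c => congrArg Subtype.val (b.2 c)]
    rw [Nat.ModEq] at hmod3
    omega
  · exact hbig 29 (by simp) (h ▸ dvd_rfl)
  · exact hbig 43 (by simp) (h ▸ dvd_rfl)
  · exact hbig 19 (by simp) (h ▸ ⟨3, rfl⟩)

end Cfsg.Agent.CyclicSylowInter.Noncentral
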