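import Cfsg.Agent.Lib.CyclicSylowInter.Noncentral.One

/-!
# The noncentral branch: larger components

For `i ≥ 2` the trace has index `q` in `S` and is normal, and the class of `t` in `S` is `tW`.
-/

set_option autoImplicit false
set_option linter.style.haveILetI false
set_option linter.unusedSectionVars false

namespace Cfsg.Agent.CyclicSylowInter.Noncentral

open Subgroup
open scoped Pointwise
open Cfsg.Agent.ZStar.CyclicIntersections

universe u

attribute [local instance] Comp.grp Comp.fin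

variable {G : Type u} [Group G] [Finite G] {S : Sylow 2 G} {t : G} (d : Comp S t) (hN : Hyp G)
include d hN

theorem cls_trans {u : G} (hu : u ∈ cls S t) {w : G} (hw : w ∈ centInv S) : u * w ∈ cls S t := by
  obtain ⟨du⟩ := comp_of_conj d hN hu.2 hu.1
  obtain ⟨n, -, -, e⟩ := exists_translate du hN hw
  exact ⟨mul_mem hu.1 hw.1, hu.2.trans (isConj_iff.2 ⟨n, e⟩)⟩

theorem layer (hi : 2 ≤ d.i) :
    Nat.card ↥(S : Subgroup G) = 2 * (2 ^ d.n) ^ d.i * 2 ^ d.n ∧
      ∀ x ∈ (S : Subgroup G), ∃ w ∈ centInv S, x * t * x⁻¹ = t * w := by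
  classical
  haveI := Fact.mk Nat.prime_two
  have hq4 := q_ge d hN
  set q := 2 ^ d.n with hq
  set s := q ^ d.i with hs
  have hspos : 0 < s := pow_pos (by omega) _
  have hinv : ∀ x : ↥(S : Subgroup G), ∀ u ∈ cls S t, (x : G) * u * (x : G)⁻¹ ∈ cls S t :=
    fun x u hu => ⟨mul_mem (mul_mem x.2 hu.1) (inv_mem x.2), hu.2.trans (isConj_iff.2 ⟨x, rfl⟩)⟩
  letI : MulAction ↥(S : Subgroup G) ↥(cls S t) :=
    { smul := fun x u => ⟨(x : G) * u.1 * (x : G)⁻¹, hinv x u.1 u.2⟩
      one_smul := fun u => Subtype.ext (by show (1 : G) * u.1 * 1⁻¹ = u.1; simp)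
      mul_smul := fun a b u => Subtype.ext (by
        show (a : G) * b * u.1 * ((a : G) * b)⁻¹ = a * (b * u.1 * (b : G)⁻¹) * (a : G)⁻¹; group) }
  have hsmul : ∀ (x : ↥(S : Subgroup G)) (u : ↥(cls S t)),
      ((x • u : ↥(cls S t)) : G) = (x : G) * u.1 * (x : G)⁻¹ := fun _ _ => rfl
  -- each orbit has the same size
  have hstab : ∀ u : ↥(cls S t),
      2 * s * (MulAction.stabilizer ↥(S : Subgroup G) u).index = Nat.card ↥(S : Subgroup G) := by
    intro u
    obtain ⟨du⟩ := comp_of_conj d hN u.2.2 u.2.1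
    have e : MulAction.stabilizer ↥(S : Subgroup G) u =
        (tr S (u : G)).subgroupOf (S : Subgroup G) := by
      ext x
      rw [MulAction.mem_stabilizer_iff, mem_subgroupOf, Subtype.ext_iff, hsmul,
        mul_inv_eq_iff_eq_mul]
      exact ⟨fun h => mem_tr.2 ⟨x.2, h⟩, fun h => (mem_tr.1 h).2⟩
    have h2 : Nat.card ↥((tr S (u : G)).subgroupOf (S : Subgroup G)) = 2 * s := by
      rw [Nat.card_congr (subgroupOfEquivOfLe inf_le_left).toEquiv, card_tr du hN, same_n d hN du,
        same_i d hN du]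
    rw [e, ← h2]
    exact card_mul_index _
  set c := (MulAction.stabilizer ↥(S : Subgroup G)
    (⟨t, d.htS, IsConj.refl t⟩ : ↥(cls S t))).index with hc
  have hcard : Nat.card ↥(S : Subgroup G) = 2 * s * c := (hstab _).symm
  have hdvd : c ∣ (cls S t).ncard := by
    refine ⟨Nat.card (Quotient (MulAction.orbitRel ↥(S : Subgroup G) ↥(cls S t))), ?_⟩
    rw [← Nat.card_coe_set_eq,
      Nat.card_congr (MulAction.selfEquivSigmaOrbitsQuotientStabilizer ↥(S : Subgroup G) ↥(cls S t)),
      natCard_sigma_const (k := c) fun ω => ?_, mul_comm]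
    show (MulAction.stabilizer ↥(S : Subgroup G) ω.out).index = _
    exact Nat.eq_of_mul_eq_mul_left (by positivity) ((hstab _).trans hcard)
  -- the orbit of `t`
  let O : Set ↥(cls S t) := MulAction.orbit ↥(S : Subgroup G) ⟨t, d.htS, IsConj.refl t⟩
  have hO : O.ncard = c := by
    rw [← Nat.card_coe_set_eq, Nat.card_congr (MulAction.orbitEquivQuotientStabilizer _ _)]
    rfl
  have hsub : (fun w => t * w) '' (centInv S : Set G) ⊆ Subtype.val '' O := by
    rintro _ ⟨w, hw, rfl⟩
    obtain ⟨n, hn, -, e⟩ := exists_translate d hN hw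
    exact ⟨_, ⟨⟨n, hn⟩, rfl⟩, e⟩
  have hle : q ≤ c := by
    have h := Set.ncard_le_ncard hsub
    rwa [Set.ncard_image_of_injective _ (fun a b h => mul_left_cancel h), ← Nat.card_coe_set_eq,
      SetLike.coe_sort_coe, card_centInv d hN, Set.ncard_image_of_injective _ Subtype.val_injective,
      hO] at h
  -- the congruence
  have hcq : c ≤ q := by
    obtain ⟨m, hm⟩ := congr d hN (le_refl (S : Subgroup G))
    rw [show cls S t ∩ ((S : Subgroup G) : Set G) = cls S t from
      Set.inter_eq_left.2 fun x hx => hx.1, card_sylow d hN, hcard, ← hq, ← hs] at hm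
    obtain ⟨j, hj⟩ := hdvd
    rw [hj] at hm
    obtain ⟨r, hr⟩ : q ∣ s := dvd_pow_self q (by omega)
    have hr' : r = q ^ (d.i - 1) := by
      have : q * r = q * q ^ (d.i - 1) := by
        rw [← hr, ← pow_succ', hs]; congr 1; omega
      exact Nat.eq_of_mul_eq_mul_left (by omega) this
    obtain ⟨p, hp⟩ : ∃ p, q = p + 1 := ⟨q - 1, by omega⟩
    have hp' : q - 1 = p := by omega
    rw [hp'] at hm
    have h1 : s * (q * (1 + r * p)) = s * (c * (j + 2 * m)) := by
      have h2 : (s + 1) * (1 + s * p) = 1 + s * (q * (1 + r * p)) := by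
        conv_lhs => rw [show s * p = q * r * p by rw [hr]]
        rw [hr, hp]; ring
      rw [h2] at hm
      have h3 : 1 + s * (q * (1 + r * p)) = 1 + s * (c * (j + 2 * m)) := by rw [hm]; ring
      omega
    have h4 := Nat.eq_of_mul_eq_mul_left hspos h1
    obtain ⟨b, hb⟩ := IsPGroup.iff_card.1 S.isPGroup'
    rw [hcard] at hb
    obtain ⟨k, -, hk⟩ := (Nat.dvd_prime_pow Nat.prime_two).1 (Dvd.intro_left _ hb : c ∣ 2 ^ b)
    have hodd : Odd (1 + r * p) := by
      have hre : 2 ∣ r := by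
        rw [hr', hq, ← pow_mul]
        exact dvd_pow_self 2 (Nat.mul_pos (by have := d.data.two_le; omega) (by omega)).ne'
      obtain ⟨e, he⟩ := hre
      exact ⟨e * p, by rw [he]; ring⟩
    have hco : Nat.Coprime c (1 + r * p) := by
      rw [hk]; exact ((Nat.coprime_two_left).2 hodd).pow_left k
    exact Nat.le_of_dvd (by omega) (hco.dvd_of_dvd_mul_right ⟨_, h4⟩)
  have hcq' : c = q := le_antisymm hcq hle
  rw [hcq'] at hcard hO
  refine ⟨hcard, fun x hx => ?_⟩
  have e : (fun w => t * w) '' (centInv S : Set G) = Subtype.val '' O := by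
    refine Set.eq_of_subset_of_ncard_le hsub ?_
    rw [Set.ncard_image_of_injective _ Subtype.val_injective, hO,
      Set.ncard_image_of_injective _ (fun a b h => mul_left_cancel h), ← Nat.card_coe_set_eq,
      SetLike.coe_sort_coe, card_centInv d hN]
  obtain ⟨w, hw, hwe⟩ : x * t * x⁻¹ ∈ (fun w => t * w) '' (centInv S : Set G) :=
    e ▸ ⟨_, ⟨⟨x, hx⟩, rfl⟩, rfl⟩
  exact ⟨w, hw, hwe.symm⟩

/-- Conjugation by `S` fixes each translate family. -/
theorem layer_cls (hi : 2 ≤ d.i) {u : G} (hu : u ∈ cls S t) {x : G} (hx : x ∈ (S : Subgroup G)) :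
    ∃ w ∈ centInv S, x * u * x⁻¹ = u * w := by
  obtain ⟨du⟩ := comp_of_conj d hN hu.2 hu.1
  exact (layer du hN (by rw [same_i d hN du]; exact hi)).2 x hx

/-- A member commuting with `t` is a translate of `t`. -/
theorem translate_of_commute {u : G} (hu : u ∈ cls S t) (h : Commute u t) :
    ∃ w ∈ centInv S, u = t * w := by
  rcases sq_cases d hN (mem_tr.2 ⟨hu.1, h⟩) (sq_of_cls d hN hu) with h' | h'
  · exact absurd h' (notMem_centInv d hN hu.2)
  · exact ⟨_, h', by rw [← mul_assoc, Involutions.Basic.inv_sq_one d.ht, one_mul]⟩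

end Cfsg.Agent.CyclicSylowInter.Noncentral
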