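import Cfsg.Agent.Lib.CyclicSylowInter.Noncentral.One
import Cfsg.Agent.Lib.CyclicSylowInter.Noncentral.Quadrangle

/-!
# The branch of a noncentral involution is empty
-/

set_option autoImplicit false

namespace Cfsg.Agent.CyclicSylowInter.Noncentral

universe u

/-- The noncentral branch. -/
theorem noncentral_branch : NoncentralBranch.{u} := by
  intro G _ _ hH hsolv hcomp S t d
  have hN : Hyp G := ⟨hH, hsolv, hcomp G hH⟩
  rcases d.data.i_mem with h | h | h
  · exact one_branch d hN h
  · exact quadrangle d hN (by omega)
  · exact quadrangle d hN (by omega)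

end Cfsg.Agent.CyclicSylowInter.Noncentral
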