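import Cfsg.Agent.Lib.CyclicSylowInter.Noncentral.Average
import Cfsg.Agent.Lib.CyclicSylowInter.Central.Weight

/-!
# The noncentral branch: a component of type `L₂(2ⁿ)`

The conjugates of `t` in `S` form one coset of `W` in each coset of the trace in its normalizer;
all of them invert an element `a` that `S` centralises modulo `W`.
-/

set_option autoImplicit false
set_option linter.style.haveILetI false
set_option linter.unusedSectionVars false

namespace Cfsg.Agent.CyclicSylowInter.Noncentral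

open Subgroup
open scoped Pointwise
open Cfsg.Agent.ZStar.CyclicIntersections

universe u

attribute [local instance] Comp.grp Comp.fin

variable {G : Type u} [Group G] [Finite G] {S : Sylow 2 G} {t : G} (d : Comp S t) (hN : Hyp G)
include d hN

theorem sq_of_cls {x : G} (hx : x ∈ cls S t) : x * x = 1 := by
  obtain ⟨g, hg⟩ := isConj_iff.1 hx.2
  exact Involutions.Basic.inv_sq_one (by rw [← hg, Involutions.Basic.orderOf_conj, d.ht])

theorem notMem_centInv {T : Sylow 2 G} {x : G} (hx : IsConj t x) : x ∉ centInv T := fun h => by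
  obtain ⟨dx⟩ := comp_of_conj d hN hx h.1
  exact t_notMem dx hN h

theorem one_branch (hi : d.i = 1) : False := by
  classical
  haveI := Fact.mk Nat.prime_two
  have hq4 := q_ge d hN
  set q := 2 ^ d.n with hqdef
  have htt := Involutions.Basic.inv_sq_one d.ht
  have hqeven : 2 ∣ q := dvd_pow_self 2 (by have := d.data.two_le; omega)
  -- every element of the trace is central up to `t`
  have hsqP : ∀ y ∈ PL d, y * y = 1 := by
    have e : {y : d.Q | y ∈ PL d ∧ y * y = 1} = (PL d : Set d.Q) := by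
      refine Set.eq_of_subset_of_ncard_le (fun y hy => hy.1) (le_of_eq ?_)
      rw [ncard_sq d, ← Nat.card_coe_set_eq, SetLike.coe_sort_coe, card_PL d, hi, pow_one]
    intro y hy
    exact (e.symm ▸ (show y ∈ (PL d : Set d.Q) from hy) : y ∈ {y : d.Q | y ∈ PL d ∧ y * y = 1}).2
  have htr : ∀ x ∈ tr S t, x ∈ centInv S ∨ t * x ∈ centInv S := by
    intro x hx
    obtain ⟨z, hz, e⟩ := exists_centInv_pr d hN (pr_mem d hx) (hsqP _ (pr_mem d hx))
    have hzc := centInv_le d hN hz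
    rcases eq_or_eq_of_pr d hN (mul_mem hx hzc)
      (by rw [pr_mul d hx.2 hzc.2, ← e, ← pr_mul d hzc.2 hzc.2, hz.2.1, pr_one]) with h | h
    · refine Or.inl ?_
      rwa [show x = z by rw [eq_inv_of_mul_eq_one_left h, inv_eq_of_mul_eq_one_left hz.2.1]]
    · refine Or.inr ?_
      rwa [show t * x = z by
        rw [show x = t * z by rw [← h, mul_assoc, hz.2.1, mul_one], ← mul_assoc, htt, one_mul]]
  let S1 : Subgroup G := (S : Subgroup G) ⊓ normalizer (tr S t : Set G)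
  have hS1 : S1 ≤ (S : Subgroup G) := inf_le_left
  have hmemS1 : ∀ x ∈ (S : Subgroup G), (∀ y ∈ tr S t, x * y * x⁻¹ ∈ tr S t) → x ∈ S1 := by
    intro x hx h
    refine ⟨hx, mem_normalizer_iff.2 fun y => ⟨h y, fun hy => ?_⟩⟩
    have hinj : Function.Injective (fun a : ↥(tr S t) => (⟨x * a * x⁻¹, h a a.2⟩ : ↥(tr S t))) :=
      fun a b e => Subtype.ext (mul_left_cancel (mul_right_cancel (congrArg Subtype.val e :)))
    obtain ⟨⟨a, ha⟩, e⟩ := (Finite.injective_iff_surjective.1 hinj) ⟨_, hy⟩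
    have e' : x * a * x⁻¹ = x * y * x⁻¹ := congrArg Subtype.val e
    rwa [← mul_left_cancel (mul_right_cancel e')]
  have htS1 : tr S t ≤ S1 := fun x hx =>
    hmemS1 x hx.1 fun y hy => mul_mem (mul_mem hx hy) (inv_mem hx)
  have hWS1 : centInv S ≤ S1 := (centInv_le d hN).trans htS1
  have htmem : t ∈ S1 := htS1 (mk_tr d.htS t_mem_cen)
  -- the map to the central involutions
  have hφ : ∀ x ∈ S1, ∃ w ∈ centInv S, x * t * x⁻¹ = t * w := by
    intro x hx
    have hu : x * t * x⁻¹ ∈ tr S t :=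
      (mem_normalizer_iff.1 hx.2 t).1 (mk_tr d.htS t_mem_cen)
    rcases htr _ hu with h | h
    · exact absurd h (notMem_centInv d hN (isConj_iff.2 ⟨x, rfl⟩))
    · exact ⟨_, h, by rw [← mul_assoc t t, htt, one_mul]⟩
  choose! φ hφW hφe using hφ
  have hφmul : ∀ x ∈ S1, ∀ y ∈ S1, φ (x * y) = φ x * φ y := by
    intro x hx y hy
    have h := hφe _ (mul_mem hx hy)
    have hc : x * φ y * x⁻¹ = φ y := by
      rw [← ((hφW y hy).2.2 x (hS1 hx)).eq, mul_inv_cancel_right]
    rw [show x * y * t * (x * y)⁻¹ = x * (y * t * y⁻¹) * x⁻¹ by group, hφe y hy,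
      show x * (t * φ y) * x⁻¹ = (x * t * x⁻¹) * (x * φ y * x⁻¹) by group, hφe x hx, hc,
      mul_assoc] at h
    exact (mul_left_cancel h).symm
  have hker : ∀ x ∈ S1, φ x = 1 → x ∈ tr S t := fun x hx h => mk_tr (hS1 hx) (mem_cent.2 (by
    have := hφe x hx
    rw [h, mul_one] at this
    exact mul_inv_eq_iff_eq_mul.1 this))
  -- the order of `S1`
  let Φ : ↥S1 →* ↥(centInv S) := MonoidHom.mk' (fun x => ⟨φ x, hφW x x.2⟩)
    (fun x y => Subtype.ext (hφmul x x.2 y y.2))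
  have hΦs : Function.Surjective Φ := by
    rintro ⟨w, hw⟩
    obtain ⟨n, hn, hconj, e⟩ := exists_translate d hN hw
    refine ⟨⟨n, hmemS1 n hn hconj⟩, Subtype.ext ?_⟩
    exact mul_left_cancel ((hφe n (hmemS1 n hn hconj)).symm.trans e)
  have hΦk : Φ.ker = (tr S t).subgroupOf S1 := by
    ext x
    rw [MonoidHom.mem_ker, mem_subgroupOf]
    refine ⟨fun h => hker x x.2 (congrArg Subtype.val h), fun h => Subtype.ext ?_⟩
    have := hφe x x.2
    rw [((mem_tr.1 h).2).eq, mul_inv_cancel_right] at this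
    exact (mul_eq_left.1 this.symm)
  have hcardS1 : Nat.card ↥S1 = 2 * q * q := by
    rw [← Φ.ker.card_mul_index, index_ker, MonoidHom.range_eq_top.2 hΦs, card_top, hΦk,
      Nat.card_congr (subgroupOfEquivOfLe htS1).toEquiv, card_tr d hN, hi, pow_one,
      card_centInv d hN]
  have hNum : Nat.card (Sylow 2 G) = q * q * q + 1 := by
    rw [card_sylow d hN, hi, pow_one, ← hqdef]
    obtain ⟨p, hp⟩ : ∃ p, q = p + 1 := ⟨q - 1, by omega⟩
    rw [hp, Nat.add_sub_cancel]; ring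
  -- translates stay in the class
  have htrans : ∀ u ∈ cls S t, ∀ w ∈ centInv S, u * w ∈ cls S t := by
    intro u hu w hw
    obtain ⟨du⟩ := comp_of_conj d hN hu.2 hu.1
    obtain ⟨n, -, -, e⟩ := exists_translate du hN hw
    exact ⟨mul_mem hu.1 hw.1, hu.2.trans (isConj_iff.2 ⟨n, e⟩)⟩
  have htcls : t ∈ cls S t := ⟨d.htS, IsConj.refl t⟩
  have hclsTr : ∀ u ∈ cls S t, u ∈ tr S t → t * u ∈ centInv S := fun u hu h =>
    (htr u h).resolve_left (notMem_centInv d hN hu.2)
  -- a member outside the trace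
  obtain ⟨u₁, hu₁, hu₁S, hu₁tr⟩ : ∃ u ∈ cls S t, u ∈ S1 ∧ u ∉ tr S t := by
    by_contra hno
    push Not at hno
    have e : cls S t ∩ (S1 : Set G) = (fun w => t * w) '' (centInv S : Set G) := by
      ext u
      constructor
      · rintro ⟨hu, hu1⟩
        exact ⟨_, hclsTr u hu (hno u hu hu1), by simp [← mul_assoc, htt]⟩
      · rintro ⟨w, hw, rfl⟩
        exact ⟨htrans t htcls w hw, mul_mem htmem (hWS1 hw)⟩
    obtain ⟨m, hm⟩ := congr d hN hS1
    rw [e, Set.ncard_image_of_injective _ (fun a b h => mul_left_cancel h), ← Nat.card_coe_set_eq,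
      SetLike.coe_sort_coe, card_centInv d hN, hcardS1, hNum, hi, pow_one, ← hqdef] at hm
    have h1 : q * q * q = q * q * (1 + 2 * m) := by nlinarith
    have h2 : q = 1 + 2 * m := Nat.eq_of_mul_eq_mul_left (by positivity) h1
    omega
  have hφt : φ t = 1 := by
    have h := hφe t htmem
    rw [mul_inv_cancel_right] at h
    exact mul_eq_left.1 h.symm
  have hφu₁ : φ u₁ ≠ 1 := fun h => hu₁tr (hker u₁ hu₁S h)
  -- a member in each coset of the trace
  have hrep : ∀ w ∈ centInv S, ∃ u ∈ cls S t, u ∈ S1 ∧ φ u = w := by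
    intro w hw
    by_cases hw1 : w = 1
    · exact ⟨t, htcls, htmem, hw1 ▸ hφt⟩
    obtain ⟨g, hg, hgN, -, hj⟩ := exists_transitive d hN
    have hz := hφW u₁ hu₁S
    have hzc := centInv_le d hN hz
    have hwc := centInv_le d hN hw
    obtain ⟨j, hj⟩ := hj _ (pr_mem d hzc) _ (pr_mem d hwc)
      (by rw [← pr_mul d hzc.2 hzc.2, hz.2.1, pr_one])
      (by rw [← pr_mul d hwc.2 hwc.2, hw.2.1, pr_one]) (pr_ne_one d hN hz hφu₁)
      (pr_ne_one d hN hw hw1)
    have hh : g ^ j ∈ cen t := pow_mem hg j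
    have hhN := pow_mem hgN j
    have hzw : g ^ j * φ u₁ * (g ^ j)⁻¹ = w :=
      pr_injOn d hN (conj_centInv hhN hz) hw (by rw [pr_conj d hh hzc.2, hj])
    have hht : g ^ j * t * (g ^ j)⁻¹ = t := by rw [(mem_cent.1 hh).eq, mul_inv_cancel_right]
    set v := g ^ j * u₁ * (g ^ j)⁻¹ with hv
    have hvS : v ∈ (S : Subgroup G) := (mem_normalizer_iff.1 hhN u₁).1 hu₁.1
    have hv1 : v ∈ S1 := by
      refine hmemS1 v hvS fun y hy => ?_
      have h1 : (g ^ j)⁻¹ * y * g ^ j ∈ tr S t := by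
        refine mk_tr ?_ (mul_mem (mul_mem (inv_mem hh) (tr_cen hy)) hh)
        have := (mem_normalizer_iff.1 (inv_mem hhN) y).1 hy.1
        rwa [inv_inv] at this
      have h2 := (mem_normalizer_iff.1 hu₁S.2 _).1 h1
      rw [hv, show g ^ j * u₁ * (g ^ j)⁻¹ * y * (g ^ j * u₁ * (g ^ j)⁻¹)⁻¹ =
        g ^ j * (u₁ * ((g ^ j)⁻¹ * y * g ^ j) * u₁⁻¹) * (g ^ j)⁻¹ by group]
      exact mk_tr ((mem_normalizer_iff.1 hhN _).1 h2.1)
        (mul_mem (mul_mem hh (tr_cen h2)) (inv_mem hh))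
    refine ⟨v, ⟨hvS, hu₁.2.trans (isConj_iff.2 ⟨g ^ j, rfl⟩)⟩, hv1, ?_⟩
    refine mul_left_cancel (a := t) ((hφe v hv1).symm.trans ?_)
    calc v * t * v⁻¹ = g ^ j * (u₁ * ((g ^ j)⁻¹ * t * g ^ j) * u₁⁻¹) * (g ^ j)⁻¹ := by
          rw [hv]; group
      _ = g ^ j * (u₁ * t * u₁⁻¹) * (g ^ j)⁻¹ := by
          rw [show (g ^ j)⁻¹ * t * g ^ j = t by
            rw [mul_assoc, ← (mem_cent.1 hh).eq, inv_mul_cancel_left]]
      _ = g ^ j * t * (g ^ j)⁻¹ * (g ^ j * φ u₁ * (g ^ j)⁻¹) := by rw [hφe u₁ hu₁S]; group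
      _ = t * w := by rw [hht, hzw]
  -- one coset of `W` in each coset of the trace
  have huniq : ∀ u ∈ cls S t, u ∈ S1 → ∀ v ∈ cls S t, v ∈ S1 → φ u = φ v →
      u * v ∈ centInv S := by
    intro u hu hu1 v hv hv1 he
    have hp : u * v ∈ tr S t := hker _ (mul_mem hu1 hv1)
      (by rw [hφmul u hu1 v hv1, he, (hφW v hv1).2.1])
    rcases htr _ hp with h | h
    · exact h
    exfalso
    set w := t * (u * v) with hw
    have huv : u * v = t * w := by rw [hw, ← mul_assoc t t, htt, one_mul]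
    have hv' : v = u * t * w := by rw [mul_assoc, ← huv, ← mul_assoc, sq_of_cls d hN hu, one_mul]
    have hut : u * t * (u * t) = 1 := by
      have h2 := sq_of_cls d hN hv
      rw [hv', (h.2.2 (u * t) (mul_mem hu.1 d.htS)).mul_mul_mul_comm, h.2.1, mul_one] at h2
      exact h2
    have hcomm : Commute u t := by
      show u * t = t * u
      rw [eq_inv_of_mul_eq_one_left hut, mul_inv_rev, inv_eq_of_mul_eq_one_left htt,
        inv_eq_of_mul_eq_one_left (sq_of_cls d hN hu)]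
    have huW := hclsTr u hu (mk_tr hu.1 (mem_cent.2 hcomm))
    refine notMem_centInv d hN hv.2 (T := S) ?_
    rw [hv', hcomm.eq]
    exact mul_mem huW h
  -- they exhaust the class
  have hall : ∀ u ∈ cls S t, u ∈ S1 := by
    choose! rep hrc hr1 hrφ using hrep
    have hsub : (fun p : G × G => rep p.1 * p.2) '' ((centInv S : Set G) ×ˢ (centInv S : Set G))
        ⊆ cls S t ∩ (S1 : Set G) := by
      rintro _ ⟨⟨a, w⟩, ⟨ha, hw⟩, rfl⟩
      exact ⟨htrans _ (hrc a ha) w hw, mul_mem (hr1 a ha) (hWS1 hw)⟩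
    have hinj : Set.InjOn (fun p : G × G => rep p.1 * p.2)
        ((centInv S : Set G) ×ˢ (centInv S : Set G)) := by
      rintro ⟨a, w⟩ ⟨ha, hw⟩ ⟨b, z⟩ ⟨hb, hz⟩ (h : rep a * w = rep b * z)
      have hφW1 : ∀ w ∈ centInv S, φ w = 1 := fun w hw => by
        have := hφe w (hWS1 hw)
        rw [(hw.2.2 t d.htS).eq, mul_inv_cancel_right] at this
        exact mul_eq_left.1 this.symm
      have h' := congrArg φ h
      rw [hφmul _ (hr1 a ha) _ (hWS1 hw), hφmul _ (hr1 b hb) _ (hWS1 hz), hrφ a ha, hrφ b hb,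
        hφW1 w hw, hφW1 z hz, mul_one, mul_one] at h'
      subst h'
      rw [mul_left_cancel h]
    have hle := (Set.ncard_le_ncard hsub)
    rw [hinj.ncard_image, Set.ncard_prod, ← Nat.card_coe_set_eq, SetLike.coe_sort_coe,
      card_centInv d hN] at hle
    have hmax := cls_mul_le d hN
    rw [hNum, hi, pow_one, ← hqdef] at hmax
    have hle2 : (cls S t).ncard ≤ q * q :=
      Nat.le_of_mul_le_mul_right (by omega : _ * q ≤ q * q * q) (by omega)
    have e := Set.eq_of_subset_of_ncard_le (Set.inter_subset_left (s := cls S t) (t := (S1 : Set G)))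
      (hle2.trans hle)
    exact fun u hu => (e.symm ▸ hu : u ∈ cls S t ∩ (S1 : Set G)).2
  -- products of three members
  have hthree : ∀ u ∈ cls S t, ∀ v ∈ cls S t, ∃ r ∈ cls S t, ∃ w ∈ centInv S,
      u * v * t = r * w := by
    intro u hu v hv
    have huv := mul_mem (mul_mem (hall u hu) (hall v hv)) htmem
    obtain ⟨r, hr, hr1, hrφ⟩ := hrep _ (hφW _ huv)
    have hp : r * (u * v * t) ∈ tr S t := hker _ (mul_mem hr1 huv)
      (by rw [hφmul r hr1 _ huv, hrφ, (hφW _ huv).2.1])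
    rcases htr _ hp with h | h
    · exact ⟨r, hr, _, h, by simp only [← mul_assoc, sq_of_cls d hN hr, one_mul]⟩
    exfalso
    set w := t * (r * (u * v * t)) with hw
    have e1 : u * v = r * w := by
      have h1 : u * v * t = r * (t * w) := by
        rw [hw, ← mul_assoc t t, htt, one_mul, ← mul_assoc r r, sq_of_cls d hN hr, one_mul]
      rw [← (h.2.2 t d.htS).eq, ← mul_assoc] at h1
      exact mul_right_cancel h1
    have e2 : u * v * (u * v) = 1 := by
      rw [e1, (h.2.2 r hr.1).mul_mul_mul_comm, sq_of_cls d hN hr, h.2.1, mul_one]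
    obtain ⟨du⟩ := comp_of_conj d hN hu.2 hu.1
    have hc : Commute v u := by
      show v * u = u * v
      rw [eq_inv_of_mul_eq_one_left e2, mul_inv_rev, inv_eq_of_mul_eq_one_left (sq_of_cls d hN hu),
        inv_eq_of_mul_eq_one_left (sq_of_cls d hN hv)]
    rcases sq_cases du hN (mk_tr hv.1 (mem_cent.2 hc)) (sq_of_cls d hN hv) with h' | h'
    · exact notMem_centInv d hN hv.2 h'
    · refine notMem_centInv d hN hr.2 (T := S) ?_
      rw [show r = u * v * w by rw [e1, mul_assoc, h.2.1, mul_one]]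
      exact mul_mem h' h
  -- the functional
  set w₁ := φ u₁ with hw₁
  have hw₁W := hφW u₁ hu₁S
  set a := u₁ * t with ha
  have hsqrt : ∀ r ∈ cls S t, r * t * (r * t) = φ r := by
    intro r hr
    have h := hφe r (hall r hr)
    rw [inv_eq_of_mul_eq_one_left (sq_of_cls d hN hr)] at h
    calc r * t * (r * t) = r * t * r * t := by group
      _ = t * φ r * t := by rw [h]
      _ = φ r := by rw [← ((hφW r (hall r hr)).2.2 t d.htS).eq, mul_assoc, htt, mul_one]
  have haS : a ∈ (S : Subgroup G) := mul_mem hu₁.1 d.htS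
  have hmove : ∀ x ∈ (S : Subgroup G), x * a * x⁻¹ * a⁻¹ ∈ centInv S := by
    intro x hx
    have hxu : x * u₁ * x⁻¹ ∈ cls S t :=
      ⟨mul_mem (mul_mem hx hu₁.1) (inv_mem hx), hu₁.2.trans (isConj_iff.2 ⟨x, rfl⟩)⟩
    have hxt : x * t * x⁻¹ ∈ cls S t :=
      ⟨mul_mem (mul_mem hx d.htS) (inv_mem hx), isConj_iff.2 ⟨x, rfl⟩⟩
    obtain ⟨r, hr, w, hw, e⟩ := hthree _ hxu _ hxt
    have e1 : x * a * x⁻¹ = r * t * w := by
      calc x * a * x⁻¹ = x * u₁ * x⁻¹ * (x * t * x⁻¹) * t * t := by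
            rw [mul_assoc _ t t, htt, mul_one, ha]; group
        _ = r * t * w := by rw [e, mul_assoc r w t, (hw.2.2 t d.htS).eq, ← mul_assoc]
    have hsq : φ r = w₁ := by
      have h1 : x * a * x⁻¹ * (x * a * x⁻¹) = w₁ := by
        rw [show x * a * x⁻¹ * (x * a * x⁻¹) = x * (a * a) * x⁻¹ by group, ha,
          hsqrt u₁ hu₁, ← (hw₁W.2.2 x hx).eq, mul_inv_cancel_right]
      rw [e1, (hw.2.2 (r * t) (mul_mem hr.1 d.htS)).mul_mul_mul_comm, hw.2.1, mul_one,
        hsqrt r hr] at h1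
      exact h1
    have hru := huniq r hr (hall r hr) u₁ hu₁ hu₁S hsq
    have e2 : r = r * u₁ * u₁ := by rw [mul_assoc, sq_of_cls d hN hu₁, mul_one]
    rw [e1, e2, ha]
    have e3 : r * u₁ * u₁ * t * w * (u₁ * t)⁻¹ = r * u₁ * w := by
      rw [mul_assoc (r * u₁ * u₁) t w, ← (hw.2.2 t d.htS).eq]
      rw [show r * u₁ * u₁ * (w * t) * (u₁ * t)⁻¹ = r * u₁ * (u₁ * w * u₁⁻¹) by group,
        ← (hw.2.2 u₁ hu₁.1).eq, mul_inv_cancel_right]
    rw [e3]
    exact mul_mem hru hw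
  obtain ⟨θ, hθ1, hθ⟩ := Central.exists_functional (centInv S) (fun z hz => hz.2.1) hw₁W hφu₁
  refine false_of_functional d hN (fun x => θ (x * a * x⁻¹ * a⁻¹)) (fun x hx y hy => ?_)
    (fun u hu => ?_)
  · rw [← hθ _ (hmove x hx) _ (hmove y hy)]
    congr 1
    have hc := ((hmove y hy).2.2 x hx).eq
    calc x * y * a * (x * y)⁻¹ * a⁻¹ = x * (y * a * y⁻¹ * a⁻¹) * a * x⁻¹ * a⁻¹ := by group
      _ = (y * a * y⁻¹ * a⁻¹) * (x * a * x⁻¹ * a⁻¹) := by rw [← hc]; group
      _ = _ := ((hmove y hy).2.2 _ (hmove x hx).1).eq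
  · show θ (u * a * u⁻¹ * a⁻¹) = 1
    obtain ⟨r, hr, w, hw, e⟩ := hthree u hu u₁ hu₁
    have h1 : u * a * (u * a) = 1 := by
      rw [show u * a = r * w by rw [ha, ← mul_assoc, e],
        (hw.2.2 r hr.1).mul_mul_mul_comm, sq_of_cls d hN hr, hw.2.1, mul_one]
    have h2 : u * a * u⁻¹ = a⁻¹ := by
      rw [inv_eq_of_mul_eq_one_left (sq_of_cls d hN hu)]
      exact eq_inv_of_mul_eq_one_left (by rw [mul_assoc]; exact h1)
    rw [h2, show a⁻¹ * a⁻¹ = (a * a)⁻¹ by group, ha, hsqrt u₁ hu₁,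
      inv_eq_of_mul_eq_one_left hw₁W.2.1]
    exact hθ1

end Cfsg.Agent.CyclicSylowInter.Noncentral
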