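import Cfsg.Agent.Lib.CyclicSylowInter.Noncentral.Single

/-!
# The noncentral branch: for `i ≥ 2` the class of `t` in `S` is `t W`
-/

set_option autoImplicit false
set_option linter.style.haveILetI false
set_option linter.unusedSectionVars false

namespace Cfsg.Agent.CyclicSylowInter.Noncentral

open Subgroup
open scoped Pointwise commutatorElement
open Cfsg.Agent.ZStar.CyclicIntersections

universe u

attribute [local instance] Comp.grp Comp.fin

variable {G : Type u} [Group G] [Finite G] {S : Sylow 2 G} {t : G} (d : Comp S t) (hN : Hyp G)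

theorem two_pow_bound : ∀ n : ℕ, 4 ≤ n → 2 * n + 2 < 2 ^ n := by
  intro n hn
  induction n, hn using Nat.le_induction with
  | base => norm_num
  | succ n hn ih => rw [pow_succ]; omega

theorem three_pow_bound : ∀ n : ℕ, 2 ≤ n → 3 * n + 4 < 3 * 2 ^ n := by
  intro n hn
  induction n, hn using Nat.le_induction with
  | base => norm_num
  | succ n hn ih => rw [pow_succ]; omega

include d hN

theorem one_family (hi : 2 ≤ d.i) : ∀ u ∈ cls S t, ∃ w ∈ centInv S, u = t * w := by
  classical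
  haveI := Fact.mk Nat.prime_two
  by_contra hcon
  push Not at hcon
  obtain ⟨g, τ, T⟩ := exists_Torus d hN
  obtain ⟨M, Mt, hMN, hodd, hMt, hgM, hnorm, m₀, hm₀, hm₀'⟩ :=
    exists_section d hN hi T.norm T.odd hcon
  have hMtM : Mt ≤ M := hMt ▸ inf_le_left
  have hgMt : ∀ m ∈ Mt, g * m * g⁻¹ ∈ Mt := fun m hm => conj_Mt d hN T hMN hMt hgM hm
  have hMtodd : Odd (Nat.card Mt) := hodd.of_dvd_nat (card_dvd_of_le hMtM)
  set C := (S : Subgroup G) ⊓ centralizer (Mt : Set G) with hCdef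
  have hC2 : IsPGroup 2 C := S.isPGroup'.to_le inf_le_left
  have hgt : g * t * g⁻¹ = t := by rw [(mem_cent.1 T.mem).eq, mul_inv_cancel_right]
  -- normalisers of `C`
  have hconjC : ∀ a, a ∈ normalizer ((S : Subgroup G) : Set G) → (∀ m ∈ Mt, a⁻¹ * m * a ∈ Mt) →
      ∀ c ∈ C, a * c * a⁻¹ ∈ C := by
    intro a ha hm c hc
    refine ⟨(mem_normalizer_iff.1 ha c).1 hc.1, mem_centralizer_iff.2 fun m hmm => ?_⟩
    have h := mem_centralizer_iff.1 hc.2 _ (hm m hmm)
    calc m * (a * c * a⁻¹) = a * (a⁻¹ * m * a * c) * a⁻¹ := by group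
      _ = a * (c * (a⁻¹ * m * a)) * a⁻¹ := by rw [h]
      _ = a * c * a⁻¹ * m := by group
  have hnormC : ∀ a, a ∈ normalizer ((S : Subgroup G) : Set G) → (∀ m ∈ Mt, a * m * a⁻¹ ∈ Mt) →
      a ∈ normalizer (C : Set G) := by
    intro a ha h
    have h' : ∀ m ∈ Mt, a⁻¹ * m * a ∈ Mt := by
      intro m hm
      have hinj : Function.Injective (fun x : ↥Mt => (⟨a * x * a⁻¹, h x x.2⟩ : ↥Mt)) := fun x y e =>
        Subtype.ext (mul_left_cancel (mul_right_cancel (congrArg Subtype.val e :)))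
      obtain ⟨⟨x, hx⟩, e⟩ := (Finite.injective_iff_surjective.1 hinj) ⟨m, hm⟩
      have e' : a * x * a⁻¹ = m := congrArg Subtype.val e
      rw [← e']; simpa [mul_assoc] using hx
    refine mem_normalizer_iff.2 fun c => ⟨hconjC a ha h' c, fun hc => ?_⟩
    have := hconjC a⁻¹ (inv_mem ha) (fun m hm => by rw [inv_inv]; exact h m hm) _ hc
    rwa [show a⁻¹ * (a * c * a⁻¹) * a⁻¹⁻¹ = c by group] at this
  have hgC : g ∈ normalizer (C : Set G) := hnormC g T.norm hgMt
  have hMC : M ≤ normalizer (C : Set G) := fun a ha => hnormC a (hMN ha) (hnorm a ha)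
  have hMtC : Mt ≤ centralizer (C : Set G) := fun m hm =>
    mem_centralizer_iff.2 fun c hc => (mem_centralizer_iff.1 hc.2 m hm).symm
  -- fixed elements in the families of the orbit
  have hfix : ∀ m ∈ M, ∃ w ∈ centInv S, m * t * m⁻¹ * w ∈ C := by
    intro m hm
    obtain ⟨w, hw, h⟩ := exists_fixed Mt hMtodd (Mt_fam d hN T hMN hMt hnorm hm)
    exact ⟨w, hw, mul_mem ((mem_normalizer_iff.1 (hMN hm) t).1 d.htS) hw.1,
      mem_centralizer_iff.2 fun a ha => (h a ha).eq⟩
  -- invariant subgroups of `centInv S`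
  have hWall : ∀ H : Subgroup G, (∀ h ∈ H, g * h * g⁻¹ ∈ H) →
      ∀ z ∈ centInv S, z ≠ 1 → z ∈ H → centInv S ≤ H := by
    intro H hH z hz hz1 hzH w hw
    by_cases hw1 : w = 1
    · rw [hw1]; exact one_mem H
    obtain ⟨j, rfl⟩ := T.trans z hz w hw hz1 hw1
    clear hw hw1
    induction j with
    | zero => simpa using hzH
    | succ j ih =>
      rw [show g ^ (j + 1) * z * (g ^ (j + 1))⁻¹ = g * (g ^ j * z * (g ^ j)⁻¹) * g⁻¹ by
        rw [pow_succ' g j, mul_inv_rev]; simp only [mul_assoc]]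
      exact hH _ ih
  -- `t` is fixed
  have htC : t ∈ C := by
    obtain ⟨w, hw, h⟩ := hfix 1 (one_mem M)
    rw [one_mul, inv_one, mul_one] at h
    by_cases hw1 : w = 1
    · rwa [hw1, mul_one] at h
    have h2 := (mem_normalizer_iff.1 hgC _).1 h
    rw [show g * (t * w) * g⁻¹ = g * t * g⁻¹ * (g * w * g⁻¹) by group, hgt] at h2
    have h3 := mul_mem (inv_mem h) h2
    rw [show (t * w)⁻¹ * (t * (g * w * g⁻¹)) = w⁻¹ * (g * w * g⁻¹) by group] at h3
    by_cases h4 : w⁻¹ * (g * w * g⁻¹) = 1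
    · exfalso
      have hc : Commute (g ^ 1) w := by
        rw [pow_one]; exact mul_inv_eq_iff_eq_mul.1 (inv_mul_eq_one.1 h4).symm
      have hp := T.period hN one_pos fun z hz => T.fix_all hN hw hw1 hc hz
      have := q_ge d hN
      omega
    have hWC := hWall C (fun c hc => (mem_normalizer_iff.1 hgC c).1 hc) _
      (mul_mem (inv_mem hw) (conj_centInv T.norm hw)) h4 h3
    have h5 := mul_mem h (inv_mem (hWC hw))
    rwa [mul_inv_cancel_right] at h5
  -- the central involutions lie in the Frattini subgroup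
  have hWΦ : centInv S ≤ (frattini ↥C).map C.subtype := by
    obtain ⟨w, hw, h⟩ := hfix m₀ hm₀
    have hu : m₀ * t * m₀⁻¹ * w ∈ cls S t :=
      cls_trans d hN ⟨(mem_normalizer_iff.1 (hMN hm₀) t).1 d.htS, isConj_iff.2 ⟨m₀, rfl⟩⟩ hw
    set u := m₀ * t * m₀⁻¹ * w
    obtain ⟨z, hz, e⟩ := layer_cls d hN hi hu d.htS
    have hmem : z ∈ (frattini ↥C).map C.subtype := by
      refine ⟨⁅(⟨t, htC⟩ : ↥C), ⟨u, h⟩⁆, ?_, ?_⟩
      · haveI := hC2.isNilpotent
        exact Coprime.commutator_le_frattini ↥C (commutator_mem_commutator (mem_top _) (mem_top _))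
      · show t * u * t⁻¹ * u⁻¹ = z
        rw [e, ← (hz.2.2 u hu.1).symm.eq.symm, mul_inv_cancel_right]
    refine hWall _ (fun c hc => ?_) z hz (fun hz1 => ?_) hmem
    · obtain ⟨x, hx, rfl⟩ := hc
      let φ : ↥C ≃* ↥C := MulEquiv.mk
        (Equiv.ofBijective (fun y : ↥C => (⟨g * y * g⁻¹, (mem_normalizer_iff.1 hgC y).1 y.2⟩ : ↥C)) (by
          have hinj : Function.Injective (fun y : ↥C =>
              (⟨g * y * g⁻¹, (mem_normalizer_iff.1 hgC y).1 y.2⟩ : ↥C)) := fun a b e =>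
            Subtype.ext (mul_left_cancel (mul_right_cancel (congrArg Subtype.val e :)))
          exact ⟨hinj, Finite.injective_iff_surjective.1 hinj⟩))
        (fun a b => Subtype.ext (by
          show g * ((a : G) * b) * g⁻¹ = g * a * g⁻¹ * (g * b * g⁻¹); group))
      refine ⟨φ x, ?_, rfl⟩
      have hch := Subgroup.characteristic_iff_comap_eq.1
        (inferInstance : (frattini ↥C).Characteristic) φ
      rw [← hch] at hx
      exact hx
    · refine hm₀' (hMt ▸ ⟨hm₀, hMN hm₀, ?_⟩)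
      rw [hz1, mul_one] at e
      obtain ⟨v, hv, ev⟩ := translate_of_commute d hN hu (mul_inv_eq_iff_eq_mul.1 e).symm
      exact ⟨v * w⁻¹, mul_mem hv (inv_mem hw), by
        rw [← mul_assoc, ← ev]; exact (mul_inv_cancel_right _ w).symm⟩
  have hcard : Nat.card ↥C ≤ 2 ^ (d.i * d.n + 1) * Nat.card ↥(frattini ↥C) := by
    have h1 : 2 ^ d.n ≤ Nat.card ↥(frattini ↥C) := by
      rw [← card_centInv d hN, ← card_subtype C (frattini ↥C)]
      exact card_le_of_le hWΦ
    calc Nat.card ↥C ≤ Nat.card ↥(S : Subgroup G) := card_le_of_le inf_le_left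
      _ = 2 ^ (d.i * d.n + 1) * 2 ^ d.n := by
          rw [(layer d hN hi).1, ← pow_mul, mul_comm d.n d.i, pow_succ]; ring
      _ ≤ _ := Nat.mul_le_mul_left _ h1
  -- centralising `C` means fixing the family
  have hback : ∀ m ∈ M, m ∈ centralizer (C : Set G) → m ∈ Mt := by
    intro m hm h
    rw [hMt]
    refine ⟨hm, hMN hm, 1, one_mem _, ?_⟩
    rw [mul_one, ← mem_centralizer_iff.1 h t htC, mul_inv_cancel_right]
  have hgjM : ∀ (l : ℕ), ∀ a ∈ M, g ^ l * a * (g ^ l)⁻¹ ∈ M := by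
    intro l
    induction l with
    | zero => intro a ha; simpa using ha
    | succ l ih =>
      intro a ha
      rw [show g ^ (l + 1) * a * (g ^ (l + 1))⁻¹ = g * (g ^ l * a * (g ^ l)⁻¹) * g⁻¹ by
        rw [pow_succ' g l, mul_inv_rev]; simp only [mul_assoc]]
      exact hgM _ (ih a ha)
  have hstep : ∀ j : ℕ, ((∀ w ∈ centInv S, Commute (g ^ j) w) → d.i = 3 ∧ τ ^ j ≠ 1) →
      ∀ m ∈ M, g ^ j * m * (g ^ j)⁻¹ * m⁻¹ ∈ centralizer (C : Set G) →
        m ∈ centralizer (C : Set G) := fun j hj m hm h =>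
    hMtC (no_fixed d hN T hMN hMt hgM hnorm hodd hi hj hm
      (hback _ (mul_mem (hgjM j m hm) (inv_mem hm)) h))
  have hgood : (d.i = 2 → 4 ≤ d.n) → False := by
    intro hn
    refine hm₀' (hback m₀ hm₀ (le_centralizer_of_fixed C hC2 M hMC hodd hgC hgM hcard
      (fun j hj hjd => hstep j fun hW => ?_) hm₀))
    have hper := T.period hN hj hW
    rcases d.data.i_mem with h | h | h
    · omega
    · exfalso
      have := two_pow_bound d.n (hn h)
      rw [h] at hjd
      omega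
    · refine ⟨h, fun e => ?_⟩
      have h3 := T.three_le hN h
      have := three_pow_bound d.n d.data.two_le
      have h4 := Nat.le_of_dvd hj (orderOf_dvd_of_pow_eq_one e)
      rw [h] at hjd
      omega
  by_cases hn : d.i = 2 → 4 ≤ d.n
  · exact hgood hn
  push Not at hn
  obtain ⟨hi2, hn4⟩ := hn
  have hn3 : d.n = 3 := by
    obtain ⟨k, hk⟩ := d.data.suzuki_odd hi2
    have := d.data.two_le
    omega
  -- the small case
  have hq : 2 ^ d.n = 8 := by rw [hn3]; norm_num
  obtain ⟨z, hz, hz1⟩ := hN.exists_centInv S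
  have h7 : ∀ w ∈ centInv S, Commute (g ^ 7) w := by
    have hmaps : Set.MapsTo (fun l : ℕ => g ^ l * z * (g ^ l)⁻¹) ↑(Finset.range 8)
        ↑((Set.toFinite ((centInv S : Set G) \ {1})).toFinset) := by
      intro l _
      rw [Set.Finite.coe_toFinset]
      exact ⟨conj_centInv (pow_mem T.norm l) hz, fun h => hz1 (conj_eq_one_iff.1 h)⟩
    have hlt : ((Set.toFinite ((centInv S : Set G) \ {1})).toFinset).card <
        (Finset.range 8).card := by
      rw [← Set.ncard_eq_toFinset_card, Set.ncard_sdiff_singleton_of_mem (one_mem (centInv S)),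
        ← Nat.card_coe_set_eq, SetLike.coe_sort_coe, card_centInv d hN, hq, Finset.card_range]
      norm_num
    obtain ⟨a, ha, b, hb, hne, e⟩ := Finset.exists_ne_map_eq_of_card_lt_of_maps_to hlt hmaps
    obtain ⟨a, b, hab, hb8, e⟩ : ∃ a b, a < b ∧ b < 8 ∧
        g ^ a * z * (g ^ a)⁻¹ = g ^ b * z * (g ^ b)⁻¹ := by
      rw [Finset.mem_range] at ha hb
      rcases lt_or_gt_of_ne hne with h | h
      · exact ⟨a, b, h, hb, e⟩
      · exact ⟨b, a, h, ha, e.symm⟩
    have hc : Commute (g ^ (b - a)) z := by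
      rw [show b = a + (b - a) by omega, pow_add, mul_inv_rev] at e
      refine (mul_inv_eq_iff_eq_mul.1 ?_ : g ^ (b - a) * z = z * g ^ (b - a))
      refine (mul_left_cancel (a := g ^ a) (mul_right_cancel (b := (g ^ a)⁻¹) ?_))
      rw [e]; simp only [mul_assoc]
    have hall := fun w hw => T.fix_all hN hz hz1 hc (w := w) hw
    have hp := T.period hN (by omega) hall
    rw [hq] at hp
    rw [show 7 = b - a by omega]
    exact hall
  set a := (orderOf g).factorization 7 with hadef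
  set m7 := orderOf g / 7 ^ a with hm7
  have hog : orderOf g = 7 ^ a * m7 := (Nat.ordProj_mul_ordCompl_eq_self _ 7).symm
  have hm7cop : Nat.gcd 7 m7 = 1 := (Nat.Prime.coprime_iff_not_dvd (by norm_num)).2
    (Nat.not_dvd_ordCompl (by norm_num) (orderOf_pos g).ne')
  have hnot : ¬ ∀ w ∈ centInv S, Commute (g ^ m7) w := by
    intro h
    have h1 : ∀ w ∈ centInv S, Commute (g ^ 1) w := by
      intro w hw
      refine (mem_centralizer_singleton_iff.1 ?_ : g ^ 1 * w = w * g ^ 1)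
      have hgz : g ^ ((Nat.gcd 7 m7 : ℕ) : ℤ) ∈ centralizer ({w} : Set G) := by
        rw [Nat.gcd_eq_gcd_ab, zpow_add, zpow_mul, zpow_mul, zpow_natCast, zpow_natCast]
        exact mul_mem (zpow_mem (mem_centralizer_singleton_iff.2 (h7 w hw).eq) _)
          (zpow_mem (mem_centralizer_singleton_iff.2 (h w hw).eq) _)
      rwa [hm7cop, zpow_natCast] at hgz
    have := T.period hN one_pos h1
    omega
  refine hm₀' (hback m₀ hm₀ (le_centralizer_of_seven C hC2 M hMC hodd
    (pow_mem hgC m7) (hgjM m7) (a := a) (by rw [← pow_mul, mul_comm, ← hog, pow_orderOf_eq_one])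
    ?_ ?_ (fun m hm => hstep m7 (fun h => absurd h hnot) m hm) hm₀))
  · rw [hi2, hn3] at hcard; exact hcard
  -- the number of families
  have hint : M ⊓ centralizer (C : Set G) = Mt :=
    le_antisymm (fun m hm => hback m hm.1 hm.2) (le_inf hMtM hMtC)
  rw [hint]
  show Nat.card (↥M ⧸ Mt.subgroupOf M) ≤ 57
  have hcls : (cls S t).ncard ≤ 8 * 57 := by
    have h := cls_mul_le d hN
    rw [card_sylow d hN, hi2, hq] at h
    norm_num at h
    omega
  have hinj : Nat.card ((↥M ⧸ Mt.subgroupOf M) × ↥(centInv S)) ≤ Nat.card ↥(cls S t) := by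
    refine Nat.card_le_card_of_injective (fun p => (⟨(p.1.out : G) * t * (p.1.out : G)⁻¹ * p.2,
      cls_trans d hN ⟨(mem_normalizer_iff.1 (hMN p.1.out.2) t).1 d.htS, isConj_iff.2 ⟨_, rfl⟩⟩ p.2.2⟩
      : ↥(cls S t))) ?_
    rintro ⟨c, w⟩ ⟨c', w'⟩ e
    have e' : (c.out : G) * t * (c.out : G)⁻¹ * w = (c'.out : G) * t * (c'.out : G)⁻¹ * w' :=
      congrArg Subtype.val e
    have hmem : (c.out : G)⁻¹ * (c'.out : G) ∈ Mt := by
      have hcN : (c.out : G)⁻¹ ∈ normalizer ((S : Subgroup G) : Set G) := inv_mem (hMN c.out.2)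
      refine (SetLike.ext_iff.1 hMt _).2 ?_
      refine mem_inf.2 ⟨mul_mem (inv_mem c.out.2) c'.out.2, mul_mem hcN (hMN c'.out.2),
        (c.out : G)⁻¹ * ((w : G) * (w' : G)⁻¹) * (c.out : G)⁻¹⁻¹,
        conj_centInv hcN (mul_mem w.2 (inv_mem w'.2)), ?_⟩
      calc (c.out : G)⁻¹ * (c'.out : G) * t * ((c.out : G)⁻¹ * (c'.out : G))⁻¹
          = (c.out : G)⁻¹ * ((c'.out : G) * t * (c'.out : G)⁻¹ * w' * (w' : G)⁻¹) * c.out := by group
        _ = (c.out : G)⁻¹ * ((c.out : G) * t * (c.out : G)⁻¹ * w * (w' : G)⁻¹) * c.out := by rw [e']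
        _ = _ := by group
    have hcc : c = c' := by
      rw [← QuotientGroup.out_eq' c, ← QuotientGroup.out_eq' c', QuotientGroup.eq]
      exact hmem
    subst hcc
    exact Prod.ext rfl (Subtype.ext (mul_left_cancel e'))
  rw [Nat.card_prod, card_centInv d hN, hq, Nat.card_coe_set_eq] at hinj
  omega

end Cfsg.Agent.CyclicSylowInter.Noncentral
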