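import Cfsg.Agent.Lib.CyclicSylowInter.Noncentral.Fixed
import Cfsg.Agent.Lib.Coprime.Commutator
import Cfsg.Agent.Lib.Coprime.PGroup
import Cfsg.Agent.Solvable.Basics

/-!
# A group of odd order on the Frattini quotient of a 2-group
-/

set_option autoImplicit false
set_option linter.style.haveILetI false
set_option linter.unusedSectionVars false

namespace Cfsg.Agent.CyclicSylowInter.Noncentral

open Subgroup
open scoped commutatorElement

universe u

variable {G : Type u} [Group G] [Finite G]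

theorem exists_rep (C : Subgroup G) (hC : IsPGroup 2 C) :
    ∃ (V : Type u) (_ : AddCommGroup V) (_ : Module (ZMod 2) V) (_ : Finite V)
      (ψ : ↥(normalizer (C : Set G)) →* (Module.End (ZMod 2) V)ˣ),
      Nat.card V * Nat.card ↥(frattini ↥C) = Nat.card ↥C ∧
      (∀ a : ↥(normalizer (C : Set G)), Odd (orderOf (a : G)) → ψ a = 1 →
        ∀ k ∈ C, Commute (a : G) k) ∧
      ∀ a : ↥(normalizer (C : Set G)), (a : G) ∈ centralizer (C : Set G) → ψ a = 1 := by
  haveI := Fact.mk Nat.prime_two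
  haveI := hC.isNilpotent
  letI : CommGroup (↥C ⧸ frattini ↥C) :=
    { (inferInstance : Group (↥C ⧸ frattini ↥C)) with
      mul_comm := fun a b => by
        induction a using QuotientGroup.induction_on with
        | H a =>
          induction b using QuotientGroup.induction_on with
          | H b =>
            rw [← QuotientGroup.mk_mul, ← QuotientGroup.mk_mul, QuotientGroup.eq]
            refine Coprime.commutator_le_frattini ↥C ?_
            rw [show (a * b)⁻¹ * (b * a) = ⁅b⁻¹, a⁻¹⁆ by rw [commutatorElement_def]; group]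
            exact commutator_mem_commutator (mem_top _) (mem_top _) }
  let V := Additive (↥C ⧸ frattini ↥C)
  letI : Module (ZMod 2) V := AddCommGroup.zmodModule (n := 2) fun x => by
    obtain ⟨y, rfl⟩ : ∃ y, Additive.ofMul y = x := ⟨x.toMul, rfl⟩
    induction y using QuotientGroup.induction_on with
    | H c =>
      rw [← ofMul_pow, ← QuotientGroup.mk_pow,
        (QuotientGroup.eq_one_iff _).2 (Solvable.Basics.pow_mem_frattini hC c)]
      rfl
  let act : ↥(normalizer (C : Set G)) → ↥C →* ↥C := fun a =>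
    { toFun := fun c => ⟨(a : G) * c * (a : G)⁻¹, (mem_normalizer_iff.1 a.2 c).1 c.2⟩
      map_one' := Subtype.ext (by simp)
      map_mul' := fun x y => Subtype.ext (by
        show (a : G) * (x * y) * (a : G)⁻¹ = a * x * (a : G)⁻¹ * (a * y * (a : G)⁻¹); group) }
  have hact : ∀ a, frattini ↥C ≤ (frattini ↥C).comap (act a) := by
    intro a
    let e : ↥C ≃* ↥C := MulEquiv.ofBijective (act a) (by
      have hinj : Function.Injective (act a) := fun x y h =>
        Subtype.ext (mul_left_cancel (mul_right_cancel (congrArg Subtype.val h :)))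
      exact ⟨hinj, Finite.injective_iff_surjective.1 hinj⟩)
    have h := (Subgroup.characteristic_iff_comap_eq.1 (inferInstance : (frattini ↥C).Characteristic)) e
    exact h.ge
  let L : ↥(normalizer (C : Set G)) →* Module.End (ZMod 2) V :=
    { toFun := fun a => AddMonoidHom.toZModLinearMap 2
        (QuotientGroup.map (frattini ↥C) (frattini ↥C) (act a) (hact a)).toAdditive
      map_one' := by
        refine LinearMap.ext fun v => ?_
        obtain ⟨y, rfl⟩ : ∃ y, Additive.ofMul y = v := ⟨v.toMul, rfl⟩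
        induction y using QuotientGroup.induction_on with
        | H c =>
          show Additive.ofMul (QuotientGroup.mk (act 1 c)) = Additive.ofMul (QuotientGroup.mk c)
          exact congrArg _ (congrArg _ (Subtype.ext (by
            show ((1 : ↥(normalizer (C : Set G))) : G) * c *
              ((1 : ↥(normalizer (C : Set G))) : G)⁻¹ = c
            simp)))
      map_mul' := fun a b => by
        refine LinearMap.ext fun v => ?_
        obtain ⟨y, rfl⟩ : ∃ y, Additive.ofMul y = v := ⟨v.toMul, rfl⟩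
        induction y using QuotientGroup.induction_on with
        | H c =>
          show Additive.ofMul (QuotientGroup.mk (act (a * b) c)) =
            Additive.ofMul (QuotientGroup.mk (act a (act b c)))
          exact congrArg _ (congrArg _ (Subtype.ext (by
            show ((a : G) * b) * c * ((a : G) * b)⁻¹ = a * (b * c * (b : G)⁻¹) * (a : G)⁻¹
            group))) }
  haveI : Finite V := Finite.of_equiv _ Additive.ofMul
  refine ⟨V, inferInstance, inferInstance, inferInstance, L.toHomUnits, ?_, fun a ha h k hk => ?_,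
    fun a ha => ?_⟩
  · rw [show Nat.card V = Nat.card (↥C ⧸ frattini ↥C) from Nat.card_congr Additive.toMul]
    exact ((frattini ↥C).card_eq_card_quotient_mul_card_subgroup).symm
  · have hpow : ∀ b : ↥(normalizer (C : Set G)), L.toHomUnits b = 1 → ∀ c : ↥C,
        (b : G) * c * (b : G)⁻¹ * (c : G)⁻¹ ∈ (frattini ↥C).map C.subtype := by
      intro b hb c
      have h1 : L b = 1 := congrArg Units.val hb
      have h2 : (QuotientGroup.mk (act b c) : ↥C ⧸ frattini ↥C) = QuotientGroup.mk c :=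
        Additive.ofMul.injective (DFunLike.congr_fun h1 (Additive.ofMul (QuotientGroup.mk c)))
      refine ⟨act b c * c⁻¹, ?_, rfl⟩
      rw [← div_eq_mul_inv, SetLike.mem_coe, ← QuotientGroup.eq_iff_div_mem, h2]
    have hodd : Odd (Nat.card ↥(zpowers (a : G))) := by rw [Nat.card_zpowers]; exact ha
    obtain ⟨j, hj⟩ := IsPGroup.iff_card.1 (hC.to_subgroup (frattini ↥C))
    have hle := Coprime.le_centralizer_of_frattini (A := zpowers (a : G)) (K := C)
      (zpowers_le.2 a.2) (by rw [hj]; exact (Nat.coprime_two_right.2 hodd).pow_right j)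
      fun b hb c hc => by
        obtain ⟨m, rfl⟩ := mem_zpowers_iff.1 hb
        have := hpow (a ^ m) (by rw [map_zpow, h, one_zpow]) ⟨c, hc⟩
        rwa [SubgroupClass.coe_zpow] at this
    exact (mem_centralizer_iff.1 (hle (mem_zpowers (a : G))) k hk).symm
  · refine Units.ext (LinearMap.ext fun v => ?_)
    obtain ⟨y, rfl⟩ : ∃ y, Additive.ofMul y = v := ⟨v.toMul, rfl⟩
    induction y using QuotientGroup.induction_on with
    | H c =>
      show Additive.ofMul (QuotientGroup.mk (act a c)) = Additive.ofMul (QuotientGroup.mk c)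
      exact congrArg _ (congrArg _ (Subtype.ext (by
        show (a : G) * c * (a : G)⁻¹ = c
        rw [← mem_centralizer_iff.1 ha c c.2, mul_inv_cancel_right])))

/-- The linear trick on the Frattini quotient. -/
theorem le_centralizer_of_fixed (C : Subgroup G) (hC : IsPGroup 2 C) (M : Subgroup G)
    (hM : M ≤ normalizer (C : Set G)) (hodd : Odd (Nat.card M)) {g : G}
    (hg : g ∈ normalizer (C : Set G)) (hgM : ∀ m ∈ M, g * m * g⁻¹ ∈ M) {δ : ℕ}
    (hδ : Nat.card ↥C ≤ 2 ^ δ * Nat.card ↥(frattini ↥C))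
    (hfix : ∀ j : ℕ, 0 < j → j ≤ δ → ∀ m ∈ M,
      g ^ j * m * (g ^ j)⁻¹ * m⁻¹ ∈ centralizer (C : Set G) → m ∈ centralizer (C : Set G)) :
    M ≤ centralizer (C : Set G) := by
  obtain ⟨V, _, _, _, ψ, hcard, hker, htriv⟩ := exists_rep C hC
  have hdim : Module.finrank (ZMod 2) V ≤ δ := by
    have h1 : Nat.card V ≤ 2 ^ δ := by
      rw [← hcard] at hδ
      exact Nat.le_of_mul_le_mul_right hδ Nat.card_pos
    rw [Module.natCard_eq_pow_finrank (K := ZMod 2) (V := V), Nat.card_zmod] at h1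
    exact (Nat.pow_le_pow_iff_right (by norm_num)).1 h1
  set T := ψ ⟨g, hg⟩ with hT
  set Γ : Subgroup (Module.End (ZMod 2) V)ˣ := (M.subgroupOf (normalizer (C : Set G))).map ψ with hΓ
  haveI : Finite Γ := Finite.of_surjective _
    (ψ.subgroupMap_surjective (M.subgroupOf (normalizer (C : Set G))))
  have hgjM : ∀ (j : ℕ), ∀ m ∈ M, g ^ j * m * (g ^ j)⁻¹ ∈ M := by
    intro j
    induction j with
    | zero => intro m hm; simpa using hm
    | succ j ih =>
      intro m hm
      rw [show g ^ (j + 1) * m * (g ^ (j + 1))⁻¹ = g * (g ^ j * m * (g ^ j)⁻¹) * g⁻¹ by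
        rw [pow_succ' g j, mul_inv_rev]; simp only [mul_assoc]]
      exact hgM _ (ih m hm)
  have hbot : Γ = ⊥ := by
    refine norm_trick T Γ (hodd.of_dvd_nat ?_) ?_ fun j hj hjd γ hγ he => ?_
    · rw [← Nat.card_congr (subgroupOfEquivOfLe hM).toEquiv]
      exact Subgroup.card_map_dvd _ _
    · rintro _ ⟨⟨m, hm'⟩, hm, rfl⟩
      refine ⟨⟨g, hg⟩ * ⟨m, hm'⟩ * ⟨g, hg⟩⁻¹, hgM m hm, ?_⟩
      rw [map_mul, map_mul, map_inv, hT]
    · obtain ⟨⟨m, hm'⟩, hm, rfl⟩ := hγ
      have hx : ψ (⟨g, hg⟩ ^ j * ⟨m, hm'⟩ * (⟨g, hg⟩ ^ j)⁻¹ * ⟨m, hm'⟩⁻¹) = 1 := by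
        rw [map_mul, map_mul, map_mul, map_inv, map_inv, map_pow, ← hT, he, mul_inv_cancel]
      have hxM : g ^ j * m * (g ^ j)⁻¹ * m⁻¹ ∈ M := mul_mem (hgjM j m hm) (inv_mem hm)
      have hmC := hfix j hj (hjd.trans hdim) m hm (mem_centralizer_iff.2 fun k hk => by
        refine (hker _ ?_ hx k hk).symm
        show Odd (orderOf (g ^ j * m * (g ^ j)⁻¹ * m⁻¹))
        rw [← Subgroup.orderOf_mk _ hxM]
        exact hodd.of_dvd_nat (orderOf_dvd_natCard _))
      exact htriv ⟨m, hm'⟩ hmC
  intro m hm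
  have hmem : ψ ⟨m, hM hm⟩ ∈ Γ := ⟨⟨m, hM hm⟩, hm, rfl⟩
  rw [hbot, mem_bot] at hmem
  refine mem_centralizer_iff.2 fun k hk => (hker _ ?_ hmem k hk).symm
  show Odd (orderOf m)
  rw [← Subgroup.orderOf_mk _ hm]
  exact hodd.of_dvd_nat (orderOf_dvd_natCard _)

/-- The small case on the Frattini quotient. -/
theorem le_centralizer_of_seven (C : Subgroup G) (hC : IsPGroup 2 C) (M : Subgroup G)
    (hM : M ≤ normalizer (C : Set G)) (hodd : Odd (Nat.card M)) {g : G}
    (hg : g ∈ normalizer (C : Set G)) (hgM : ∀ m ∈ M, g * m * g⁻¹ ∈ M) {a : ℕ}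
    (hga : g ^ (7 ^ a) = 1) (hδ : Nat.card ↥C ≤ 2 ^ 7 * Nat.card ↥(frattini ↥C))
    (hsize : (M ⊓ centralizer (C : Set G)).relIndex M ≤ 57)
    (hfix : ∀ m ∈ M, g * m * g⁻¹ * m⁻¹ ∈ centralizer (C : Set G) → m ∈ centralizer (C : Set G)) :
    M ≤ centralizer (C : Set G) := by
  obtain ⟨V, _, _, _, ψ, hcard, hker, htriv⟩ := exists_rep C hC
  have hdim : Module.finrank (ZMod 2) V ≤ 7 := by
    have h1 : Nat.card V ≤ 2 ^ 7 := by
      rw [← hcard] at hδ
      exact Nat.le_of_mul_le_mul_right hδ Nat.card_pos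
    rw [Module.natCard_eq_pow_finrank (K := ZMod 2) (V := V), Nat.card_zmod] at h1
    exact (Nat.pow_le_pow_iff_right (by norm_num)).1 h1
  have hoddm : ∀ m ∈ M, Odd (orderOf m) := fun m hm => by
    rw [← Subgroup.orderOf_mk _ hm]; exact hodd.of_dvd_nat (orderOf_dvd_natCard _)
  let f : ↥M →* (Module.End (ZMod 2) V)ˣ := ψ.comp (inclusion hM)
  have hfk : f.ker = (M ⊓ centralizer (C : Set G)).subgroupOf M := by
    ext m
    rw [MonoidHom.mem_ker, mem_subgroupOf]
    refine ⟨fun h => ⟨m.2, mem_centralizer_iff.2 fun k hk => ?_⟩, fun h => htriv _ h.2⟩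
    exact (hker ⟨m, hM m.2⟩ (hoddm m m.2) h k hk).symm
  set T := ψ ⟨g, hg⟩ with hT
  haveI : Finite f.range := Finite.of_surjective _ f.rangeRestrict_surjective
  have hbot : f.range = ⊥ := by
    refine small_trick hdim T f.range (hodd.of_dvd_nat (Subgroup.card_range_dvd f)) ?_ ?_ ?_ ?_
    · rw [← index_ker, hfk]; exact hsize
    · intro x
      refine ⟨a, Subtype.ext ?_⟩
      obtain ⟨z, hz⟩ := x.2
      have hTa : T ^ (7 ^ a) = 1 := by
        rw [hT, ← map_pow, show (⟨g, hg⟩ : ↥(normalizer (C : Set G))) ^ (7 ^ a) = 1 from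
          Subtype.ext (by rw [SubgroupClass.coe_pow, hga, OneMemClass.coe_one]), map_one]
      rw [SubgroupClass.coe_pow, OneMemClass.coe_one, ← hz]
      show (T ^ z) ^ (7 ^ a) = 1
      rw [← zpow_natCast, ← zpow_mul, mul_comm, zpow_mul, zpow_natCast, hTa, one_zpow]
    · rintro _ ⟨m, rfl⟩
      refine ⟨⟨g * m * g⁻¹, hgM m m.2⟩, ?_⟩
      show ψ _ = T * ψ _ * T⁻¹
      rw [hT, ← map_inv, ← map_mul, ← map_mul]
      rfl
    · rintro _ ⟨m, rfl⟩ he
      have hx : ψ (⟨g, hg⟩ * inclusion hM m * ⟨g, hg⟩⁻¹ * (inclusion hM m)⁻¹) = 1 := by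
        rw [map_mul, map_mul, map_mul, map_inv, map_inv, ← hT]
        exact mul_inv_eq_one.2 he
      have hxM : g * m * g⁻¹ * (m : G)⁻¹ ∈ M := mul_mem (hgM m m.2) (inv_mem m.2)
      exact htriv _ (hfix m m.2 (mem_centralizer_iff.2 fun k hk => (hker _ (hoddm _ hxM) hx k hk).symm))
  intro m hm
  have : (⟨m, hm⟩ : ↥M) ∈ f.ker := by
    rw [MonoidHom.mem_ker, ← mem_bot, ← hbot]; exact ⟨_, rfl⟩
  rw [hfk, mem_subgroupOf] at this
  exact this.2

end Cfsg.Agent.CyclicSylowInter.Noncentral
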