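import Cfsg.Agent.Lib.CyclicSylowInter.Noncentral.Torus
import Cfsg.Agent.Lib.CyclicSylowInter.Noncentral.Rep

/-!
# The noncentral branch: for `i ≥ 2` the class of `t` in `S` is one translate family

Otherwise the odd group acting on the families has a section acting faithfully on a Frattini
quotient of dimension less than the order of the torus element, which acts on it without fixed
points.
-/

set_option autoImplicit false
set_option linter.style.haveILetI false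
set_option linter.unusedSectionVars false

namespace Cfsg.Agent.CyclicSylowInter.Noncentral

open Subgroup
open scoped Pointwise commutatorElement
open Cfsg.Agent.ZStar.CyclicIntersections

universe u

attribute [local instance] Comp.grp Comp.fin

variable {G : Type u} [Group G] [Finite G] {S : Sylow 2 G} {t : G} (d : Comp S t) (hN : Hyp G)
include d hN

/-- The last derived term of the complement moving a family. -/
theorem exists_section (hi : 2 ≤ d.i) {g : G}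
    (hgN : g ∈ normalizer ((S : Subgroup G) : Set G)) (hgo : Odd (orderOf g))
    (hmove : ∃ u ∈ cls S t, ∀ w ∈ centInv S, u ≠ t * w) :
    ∃ M Mt : Subgroup G, M ≤ normalizer ((S : Subgroup G) : Set G) ∧ Odd (Nat.card M) ∧
      Mt = M ⊓ famStab S t ∧ (∀ m ∈ M, g * m * g⁻¹ ∈ M) ∧
      (∀ a ∈ M, ∀ m ∈ Mt, a * m * a⁻¹ ∈ Mt) ∧ ∃ m₀ ∈ M, m₀ ∉ Mt := by
  classical
  obtain ⟨A, hAN, hAodd, hle, hgA⟩ := exists_complement_through (S := S) hgN hgo
  -- the complement is transitive on the families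
  have htrans : ∀ u ∈ cls S t, ∃ a ∈ A, ∃ w ∈ centInv S, u = a * t * a⁻¹ * w := by
    rintro u ⟨huS, hu⟩
    obtain ⟨c, hc⟩ := isConj_iff.1 hu
    obtain ⟨n, hn, e⟩ := exists_normalizer_fusion hN.hH.reduced S d.htS (g := c) (by rw [hc]; exact huS)
    obtain ⟨x, hx, a, ha, rfl⟩ := (Coprime.mem_sup_of_le_normalizer hAN).1 (hle hn)
    have hat : a * t * a⁻¹ ∈ cls S t :=
      ⟨(mem_normalizer_iff.1 (hAN ha) t).1 d.htS, isConj_iff.2 ⟨a, rfl⟩⟩
    obtain ⟨w, hw, e'⟩ := layer_cls d hN hi hat hx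
    refine ⟨a, ha, w, hw, ?_⟩
    rw [← hc, ← e, ← e']
    group
  -- the derived series
  have hsolv : Group.IsSolvable ↥A := S0205.result hAodd
  let F : Subgroup G := A ⊓ ⨅ u ∈ cls S t, famStab S u
  have hA0 : ¬ A ≤ F := by
    intro hA0
    obtain ⟨u, hu, hne⟩ := hmove
    obtain ⟨a, ha, w, hw, e⟩ := htrans u hu
    obtain ⟨-, z, hz, e'⟩ :=
      (mem_iInf.1 (mem_iInf.1 (hA0 ha).2 t) ⟨d.htS, IsConj.refl t⟩ : a ∈ famStab S t)
    exact hne (z * w) (mul_mem hz hw) (by rw [e, e', mul_assoc])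
  obtain ⟨n, hn⟩ := hsolv.solvable
  let P : ℕ → Prop := fun j => (derivedSeries ↥A j).map A.subtype ≤ F
  have hP : ∃ j, P j := ⟨n, by show Subgroup.map _ _ ≤ _; rw [hn, Subgroup.map_bot]; exact bot_le⟩
  have hP0 : ¬ P 0 := fun h => hA0 fun a ha => h ⟨⟨a, ha⟩, mem_top _, rfl⟩
  obtain ⟨j, hj⟩ : ∃ j, Nat.find hP = j + 1 :=
    ⟨Nat.find hP - 1, by
      have : Nat.find hP ≠ 0 := fun e => hP0 (e ▸ Nat.find_spec hP)
      omega⟩
  have hPj : ¬ P j := Nat.find_min hP (by omega)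
  have hPj1 : P (j + 1) := hj ▸ Nat.find_spec hP
  set M := (derivedSeries ↥A j).map A.subtype with hMdef
  have hMA : M ≤ A := map_subtype_le _
  have hMnorm : ∀ a ∈ A, ∀ m ∈ M, a * m * a⁻¹ ∈ M := by
    rintro a ha _ ⟨m, hm, rfl⟩
    exact ⟨⟨a, ha⟩ * m * ⟨a, ha⟩⁻¹, (derivedSeries_normal ↥A j).conj_mem m hm _, rfl⟩
  have hcomm : ∀ a ∈ M, ∀ b ∈ M, ⁅a, b⁆ ∈ F := by
    rintro _ ⟨a, ha, rfl⟩ _ ⟨b, hb, rfl⟩
    refine hPj1 ⟨⁅a, b⁆, ?_, map_commutatorElement A.subtype a b⟩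
    rw [derivedSeries_succ]
    exact commutator_mem_commutator ha hb
  have hFt : ∀ x ∈ F, x ∈ famStab S t := fun x hx =>
    mem_iInf.1 (mem_iInf.1 hx.2 t) ⟨d.htS, IsConj.refl t⟩
  refine ⟨M, M ⊓ famStab S t, hMA.trans hAN, hAodd.of_dvd_nat (card_dvd_of_le hMA), rfl,
    fun m hm => hMnorm g hgA m hm, fun a ha m hm => ?_, ?_⟩
  · refine ⟨hMnorm a (hMA ha) m hm.1, ?_⟩
    rw [show a * m * a⁻¹ = ⁅a, m⁆ * m by rw [commutatorElement_def]; group]
    exact mul_mem (hFt _ (hcomm a ha m hm.1)) hm.2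
  · by_contra hno
    push Not at hno
    refine hPj fun m hm => ⟨hMA hm, mem_iInf.2 fun u => mem_iInf.2 fun hu => ?_⟩
    obtain ⟨a, ha, w, hw, e⟩ := htrans u hu
    have hm' : a⁻¹ * m * a ∈ M := by
      have := hMnorm a⁻¹ (inv_mem ha) m hm
      rwa [inv_inv] at this
    obtain ⟨-, z, hz, e'⟩ := (hno _ hm').2
    have hmN : m ∈ normalizer ((S : Subgroup G) : Set G) := hAN (hMA hm)
    refine ⟨hmN, w⁻¹ * (a * z * a⁻¹) * (m * w * m⁻¹), mul_mem (mul_mem (inv_mem hw)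
      (conj_centInv (hAN ha) hz)) (conj_centInv hmN hw), ?_⟩
    rw [e, show m * (a * t * a⁻¹ * w) * m⁻¹ =
      a * (a⁻¹ * m * a * t * (a⁻¹ * m * a)⁻¹) * a⁻¹ * (m * w * m⁻¹) by group, e']
    group

variable {g : G} {τ : ↥d.L} (T : Torus d g τ) {M Mt : Subgroup G}
  (hMN : M ≤ normalizer ((S : Subgroup G) : Set G)) (hMt : Mt = M ⊓ famStab S t)
  (hgM : ∀ m ∈ M, g * m * g⁻¹ ∈ M)
  (hnorm : ∀ a ∈ M, ∀ m ∈ Mt, a * m * a⁻¹ ∈ Mt)
  (hodd : Odd (Nat.card M))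
include T hMN hMt hgM hnorm hodd

omit hnorm hodd in
theorem conj_Mt {m : G} (hm : m ∈ Mt) : g * m * g⁻¹ ∈ Mt := by
  rw [hMt] at hm ⊢
  obtain ⟨hm1, hmN, w, hw, e⟩ := hm
  refine ⟨hgM m hm1, mul_mem (mul_mem T.norm hmN) (inv_mem T.norm), g * w * g⁻¹,
    conj_centInv T.norm hw, ?_⟩
  have hgt : g * t * g⁻¹ = t := by rw [(mem_cent.1 T.mem).eq, mul_inv_cancel_right]
  calc g * m * g⁻¹ * t * (g * m * g⁻¹)⁻¹
      = g * m * g⁻¹ * (g * t * g⁻¹) * (g * m * g⁻¹)⁻¹ := by rw [hgt]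
    _ = g * (m * t * m⁻¹) * g⁻¹ := by group
    _ = g * t * g⁻¹ * (g * w * g⁻¹) := by rw [e]; group
    _ = _ := by rw [hgt]

omit hgM hodd in
theorem Mt_fam {m : G} (hm : m ∈ M) : Mt ≤ famStab S (m * t * m⁻¹) := by
  intro a ha
  have h1 : m⁻¹ * a * m ∈ Mt := by
    have := hnorm m⁻¹ (inv_mem hm) a ha
    rwa [inv_inv] at this
  rw [hMt] at h1 ha
  obtain ⟨-, -, w, hw, e⟩ := h1
  refine ⟨hMN ha.1, m * w * m⁻¹, conj_centInv (hMN hm) hw, ?_⟩
  calc a * (m * t * m⁻¹) * a⁻¹ = m * (m⁻¹ * a * m * t * (m⁻¹ * a * m)⁻¹) * m⁻¹ := by group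
    _ = m * t * m⁻¹ * (m * w * m⁻¹) := by rw [e]; group

/-- An element of `M` whose family is fixed by `g ^ j` fixes the family of `t`. -/
theorem no_fixed (hi : 2 ≤ d.i) {j : ℕ}
    (hj : (∀ w ∈ centInv S, Commute (g ^ j) w) → d.i = 3 ∧ τ ^ j ≠ 1)
    {m : G} (hm : m ∈ M) (hx : g ^ j * m * (g ^ j)⁻¹ * m⁻¹ ∈ Mt) : m ∈ Mt := by
  classical
  have hgj : ∀ (l : ℕ), ∀ a ∈ M, g ^ l * a * (g ^ l)⁻¹ ∈ M := by
    intro l
    induction l with
    | zero => intro a ha; simpa using ha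
    | succ l ih =>
      intro a ha
      rw [show g ^ (l + 1) * a * (g ^ (l + 1))⁻¹ = g * (g ^ l * a * (g ^ l)⁻¹) * g⁻¹ by
        rw [pow_succ' g l, mul_inv_rev]; simp only [mul_assoc]]
      exact hgM _ (ih a ha)
  have hgjt : ∀ (l : ℕ), ∀ a ∈ Mt, g ^ l * a * (g ^ l)⁻¹ ∈ Mt := by
    intro l
    induction l with
    | zero => intro a ha; simpa using ha
    | succ l ih =>
      intro a ha
      rw [show g ^ (l + 1) * a * (g ^ (l + 1))⁻¹ = g * (g ^ l * a * (g ^ l)⁻¹) * g⁻¹ by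
        rw [pow_succ' g l, mul_inv_rev]; simp only [mul_assoc]]
      exact conj_Mt d hN T hMN hMt hgM (ih a ha)
  have hgt : ∀ l : ℕ, g ^ l * t * (g ^ l)⁻¹ = t := fun l => by
    rw [(mem_cent.1 (pow_mem T.mem l)).eq, mul_inv_cancel_right]
  have hu : ∀ a ∈ M, a * t * a⁻¹ ∈ cls S t := fun a ha =>
    ⟨(mem_normalizer_iff.1 (hMN ha) t).1 d.htS, isConj_iff.2 ⟨a, rfl⟩⟩
  have hfam : ∀ a ∈ M, (∃ w ∈ centInv S, a * t * a⁻¹ = t * w) → a ∈ Mt := fun a ha h => by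
    rw [hMt]; exact ⟨ha, hMN ha, h⟩
  -- a fixed point in each family fixed by `g ^ j`
  have hrep : ∀ a ∈ M, g ^ j * a * (g ^ j)⁻¹ * a⁻¹ ∈ Mt →
      ∃ w ∈ centInv S, Commute (g ^ j) (a * t * a⁻¹ * w) := by
    intro a ha hxa
    have hmem : g ^ j ∈ famStab S (a * t * a⁻¹) := by
      obtain ⟨-, w, hw, e⟩ := Mt_fam d hN T hMN hMt hnorm ha hxa
      refine ⟨pow_mem T.norm j, w, hw, ?_⟩
      rw [← e]
      calc g ^ j * (a * t * a⁻¹) * (g ^ j)⁻¹
          = (g ^ j * a * (g ^ j)⁻¹) * (g ^ j * t * (g ^ j)⁻¹) * (g ^ j * a * (g ^ j)⁻¹)⁻¹ := by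
            group
        _ = _ := by rw [hgt]; group
    obtain ⟨w, hw, h⟩ := exists_fixed (zpowers (g ^ j)) (by
      rw [Nat.card_zpowers]; exact T.odd.of_dvd_nat (orderOf_pow_dvd j)) (zpowers_le.2 hmem)
    exact ⟨w, hw, h _ (mem_zpowers _)⟩
  -- the commutator with `t`
  have hz : ∀ a ∈ M, ∀ w ∈ centInv S, t * (a * t * a⁻¹ * w) * (t * (a * t * a⁻¹ * w)) =
      t * (a * t * a⁻¹) * (t * (a * t * a⁻¹)) := by
    intro a ha w hw
    rw [← mul_assoc t (a * t * a⁻¹) w,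
      (hw.2.2 _ (mul_mem d.htS (hu a ha).1)).mul_mul_mul_comm, hw.2.1, mul_one]
  have hzW : ∀ a ∈ M, t * (a * t * a⁻¹) * (t * (a * t * a⁻¹)) ∈ centInv S := by
    intro a ha
    obtain ⟨w, hw, e⟩ := layer_cls d hN hi (hu a ha) d.htS
    rw [Involutions.Basic.inv_eq d.ht] at e
    rw [show t * (a * t * a⁻¹) * (t * (a * t * a⁻¹)) = t * (a * t * a⁻¹) * t * (a * t * a⁻¹) by
      group, e, mul_assoc, (hw.2.2 _ (hu a ha).1).eq, ← mul_assoc, sq_of_cls d hN (hu a ha),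
      one_mul]
    exact hw
  -- trivial commutator
  have hz1 : ∀ a ∈ M, t * (a * t * a⁻¹) * (t * (a * t * a⁻¹)) = 1 → a ∈ Mt := by
    intro a ha h
    refine hfam a ha (translate_of_commute d hN (hu a ha) ?_)
    show a * t * a⁻¹ * t = t * (a * t * a⁻¹)
    conv_rhs => rw [eq_inv_of_mul_eq_one_left h, mul_inv_rev, Involutions.Basic.inv_eq d.ht,
      inv_eq_of_mul_eq_one_left (sq_of_cls d hN (hu a ha))]
  obtain ⟨w₀, hw₀, hc⟩ := hrep m hm hx
  set z := t * (m * t * m⁻¹) * (t * (m * t * m⁻¹)) with hzdef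
  by_cases hz0 : z = 1
  · exact hz1 m hm hz0
  exfalso
  have hct : Commute (g ^ j) t := mem_cent.1 (pow_mem T.mem j)
  have hcz : Commute (g ^ j) z := by
    rw [hzdef, ← hz m hm w₀ hw₀]; exact (hct.mul_right hc).mul_right (hct.mul_right hc)
  have hcW : ∀ w ∈ centInv S, Commute (g ^ j) w := fun w hw => T.fix_all hN (hzW m hm) hz0 hcz hw
  obtain ⟨hi3, hτ⟩ := hj hcW
  have he : ∀ p ∈ tr S t, Commute (g ^ j) p → pr d p * pr d p = 1 := by
    intro p hp hcp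
    obtain ⟨a, ha, hae⟩ := exists_SL d (pr_mem d hp)
    have hgje : ((τ ^ j : ↥d.L) : d.Q) = pr d (g ^ j) := by
      rw [SubgroupClass.coe_pow, pr_pow d T.mem, T.pr_eq]
    have hcomm : ∀ x ∈ (d.SL : Subgroup ↥d.L), orderOf x = 2 → Commute (τ ^ j) x := by
      intro x hx hxo
      obtain ⟨w, hw, e⟩ := exists_centInv_pr d hN (coe_mem d hx)
        (congrArg Subtype.val (Involutions.Basic.inv_sq_one hxo))
      refine Subtype.ext ?_
      show ((τ ^ j : ↥d.L) : d.Q) * x = x * ((τ ^ j : ↥d.L) : d.Q)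
      rw [hgje, ← e, ← pr_mul d (pow_mem T.mem j) (centInv_le d hN hw).2,
        ← pr_mul d (centInv_le d hN hw).2 (pow_mem T.mem j), (hcW w hw).eq]
    have h := (T.three hi3).2 j hτ hcomm a ha (Subtype.ext (by
      show ((τ ^ j : ↥d.L) : d.Q) * a = a * ((τ ^ j : ↥d.L) : d.Q)
      rw [hgje, hae, ← pr_mul d (pow_mem T.mem j) hp.2, ← pr_mul d hp.2 (pow_mem T.mem j), hcp.eq]))
    rw [← hae]; exact congrArg Subtype.val h
  let Mj : Subgroup G :=
    { carrier := {a | a ∈ M ∧ g ^ j * a * (g ^ j)⁻¹ * a⁻¹ ∈ Mt}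
      one_mem' := ⟨one_mem _, by simp⟩
      mul_mem' := by
        rintro a b ⟨ha, ha'⟩ ⟨hb, hb'⟩
        refine ⟨mul_mem ha hb, ?_⟩
        rw [show g ^ j * (a * b) * (g ^ j)⁻¹ * (a * b)⁻¹ = g ^ j * a * (g ^ j)⁻¹ * a⁻¹ *
          (a * (g ^ j * b * (g ^ j)⁻¹ * b⁻¹) * a⁻¹) by group]
        exact mul_mem ha' (hnorm a ha _ hb')
      inv_mem' := by
        rintro a ⟨ha, ha'⟩
        refine ⟨inv_mem ha, ?_⟩
        have := hnorm a⁻¹ (inv_mem ha) _ (inv_mem ha')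
        rw [inv_inv] at this
        rw [show g ^ j * a⁻¹ * (g ^ j)⁻¹ * a⁻¹⁻¹ =
          a⁻¹ * (g ^ j * a * (g ^ j)⁻¹ * a⁻¹)⁻¹ * a by group]
        exact this }
  let Ψ : G → G := fun a => t * (a * t * a⁻¹) * (t * (a * t * a⁻¹))
  -- same commutator, same family
  have hinj : ∀ a ∈ Mj, ∀ b ∈ Mj, Ψ a = Ψ b → b⁻¹ * a ∈ Mt := by
    intro a ha b hb heq
    have hΨ1 : ∀ x ∈ Mj, Ψ x = 1 → x ∈ Mt := fun x hx' h => hz1 x hx'.1 h
    by_cases h1 : Ψ a = 1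
    · exact mul_mem (inv_mem (hΨ1 b hb (heq ▸ h1))) (hΨ1 a ha h1)
    obtain ⟨w, hw, hwc⟩ := hrep a ha.1 ha.2
    obtain ⟨w', hw', hwc'⟩ := hrep b hb.1 hb.2
    set u := a * t * a⁻¹ * w with hudef
    set v := b * t * b⁻¹ * w' with hvdef
    have huc : u ∈ cls S t := cls_trans d hN (hu a ha.1) hw
    have hvc : v ∈ cls S t := cls_trans d hN (hu b hb.1) hw'
    have hΨu : t * u * (t * u) = Ψ a := hz a ha.1 w hw
    have hΨv : t * v * (t * v) = Ψ b := hz b hb.1 w' hw'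
    have hzWa : Ψ a ∈ centInv S := hzW a ha.1
    have htx : ∀ x ∈ cls S t, t * x * (t * x) = Ψ a → t * x * t = x * Ψ a := by
      intro x hxc h
      rw [← (hzWa.2.2 x hxc.1).eq, ← h]
      simp only [mul_assoc, sq_of_cls d hN hxc, mul_one]
    have hp : Commute (u * v) t := by
      have h1 := htx u huc hΨu
      have h2 := htx v hvc (hΨv.trans heq.symm)
      have h3 : t * (u * v) * t = u * v := by
        calc t * (u * v) * t = (t * u * t) * (t * v * t) := by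
              simp only [← mul_assoc]
              rw [mul_assoc (t * u) t t, Involutions.Basic.inv_sq_one d.ht, mul_one]
          _ = u * v := by
              rw [h1, h2, (hzWa.2.2 v hvc.1).mul_mul_mul_comm, hzWa.2.1, mul_one]
      show u * v * t = t * (u * v)
      conv_lhs => rw [← h3]
      rw [mul_assoc, Involutions.Basic.inv_sq_one d.ht, mul_one]
    have hpt : u * v ∈ tr S t := mem_tr.2 ⟨mul_mem huc.1 hvc.1, hp⟩
    obtain ⟨z₀, hz₀, e₀⟩ := exists_centInv_pr d hN (pr_mem d hpt)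
      (he _ hpt (hwc.mul_right hwc'))
    have hz₀c := centInv_le d hN hz₀
    rcases eq_or_eq_of_pr d hN (mul_mem hpt hz₀c) (by
      rw [pr_mul d hpt.2 hz₀c.2, ← e₀, ← pr_mul d hz₀c.2 hz₀c.2, hz₀.2.1, pr_one]) with h | h
    · -- same family
      have hvu : v = u * z₀ := by
        rw [show z₀ = u * v by
          rw [eq_inv_of_mul_eq_one_left h, inv_eq_of_mul_eq_one_left hz₀.2.1],
          ← mul_assoc, sq_of_cls d hN huc, one_mul]
      refine hfam _ (mul_mem (inv_mem hb.1) ha.1) ?_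
      have hbN : b⁻¹ ∈ normalizer ((S : Subgroup G) : Set G) := inv_mem (hMN hb.1)
      refine ⟨b⁻¹ * (w' * z₀⁻¹ * w⁻¹) * b⁻¹⁻¹,
        conj_centInv hbN (mul_mem (mul_mem hw' (inv_mem hz₀)) (inv_mem hw)), ?_⟩
      have e1 : b * t * b⁻¹ * w' = a * t * a⁻¹ * w * z₀ := hvu
      calc b⁻¹ * a * t * (b⁻¹ * a)⁻¹ = b⁻¹ * (a * t * a⁻¹ * w * z₀ * z₀⁻¹ * w⁻¹) * b := by group
        _ = b⁻¹ * (b * t * b⁻¹ * w' * z₀⁻¹ * w⁻¹) * b := by rw [e1]
        _ = _ := by group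
    · exfalso
      refine h1 ?_
      have hvu : v = u * t * z₀ := by
        rw [← h]
        simp only [mul_assoc, hz₀.2.1, mul_one]
        rw [← mul_assoc, sq_of_cls d hN huc, one_mul]
      have h2 := sq_of_cls d hN hvc
      rw [hvu, (hz₀.2.2 (u * t) (mul_mem huc.1 d.htS)).mul_mul_mul_comm, hz₀.2.1, mul_one] at h2
      rw [← hΨu]
      calc t * u * (t * u) = t * (u * t * (u * t)) * t := by
            simp only [mul_assoc]
            rw [show t * t = 1 from Involutions.Basic.inv_sq_one d.ht, mul_one]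
        _ = 1 := by rw [h2, mul_one, Involutions.Basic.inv_sq_one d.ht]
  -- the quotient is in bijection with the central involutions
  let Q := ↥Mj ⧸ Mt.subgroupOf Mj
  have hmMj : m ∈ Mj := ⟨hm, hx⟩
  let f : Q → ↥(centInv S) := fun c => ⟨Ψ (c.out : G), hzW _ c.out.2.1⟩
  have hbij : Function.Bijective f := by
    constructor
    · intro c c' e
      have h := hinj _ c.out.2 _ c'.out.2 (congrArg Subtype.val e)
      rw [← QuotientGroup.out_eq' c, ← QuotientGroup.out_eq' c']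
      refine (QuotientGroup.eq.2 ?_).symm
      exact h
    · rintro ⟨w, hw⟩
      -- a representative with this value
      obtain ⟨a, ha, hΨa⟩ : ∃ a ∈ Mj, Ψ a = w := by
        by_cases hw1 : w = 1
        · refine ⟨1, one_mem _, ?_⟩
          show t * (1 * t * 1⁻¹) * (t * (1 * t * 1⁻¹)) = w
          simp [hw1, Involutions.Basic.inv_sq_one d.ht]
        obtain ⟨l, hl⟩ := T.trans z (hzW m hm) w hw hz0 hw1
        refine ⟨g ^ l * m * (g ^ l)⁻¹, ⟨hgj l m hm, ?_⟩, ?_⟩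
        · rw [show g ^ j * (g ^ l * m * (g ^ l)⁻¹) * (g ^ j)⁻¹ * (g ^ l * m * (g ^ l)⁻¹)⁻¹ =
            g ^ l * (g ^ j * m * (g ^ j)⁻¹ * m⁻¹) * (g ^ l)⁻¹ by
            have e : g ^ j * g ^ l = g ^ l * g ^ j := by rw [← pow_add, ← pow_add, add_comm]
            calc g ^ j * (g ^ l * m * (g ^ l)⁻¹) * (g ^ j)⁻¹ * (g ^ l * m * (g ^ l)⁻¹)⁻¹
                = (g ^ j * g ^ l) * m * (g ^ j * g ^ l)⁻¹ * (g ^ l * m⁻¹ * (g ^ l)⁻¹) := by group
              _ = (g ^ l * g ^ j) * m * (g ^ l * g ^ j)⁻¹ * (g ^ l * m⁻¹ * (g ^ l)⁻¹) := by rw [e]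
              _ = _ := by group]
          exact hgjt l _ hx
        · show t * _ * (t * _) = w
          rw [← hl, hzdef]
          calc t * (g ^ l * m * (g ^ l)⁻¹ * t * (g ^ l * m * (g ^ l)⁻¹)⁻¹) *
                (t * (g ^ l * m * (g ^ l)⁻¹ * t * (g ^ l * m * (g ^ l)⁻¹)⁻¹))
              = g ^ l * t * (g ^ l)⁻¹ * (g ^ l * m * (g ^ l)⁻¹ * (g ^ l * t * (g ^ l)⁻¹) *
                (g ^ l * m * (g ^ l)⁻¹)⁻¹) * (g ^ l * t * (g ^ l)⁻¹ * (g ^ l * m * (g ^ l)⁻¹ *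
                (g ^ l * t * (g ^ l)⁻¹) * (g ^ l * m * (g ^ l)⁻¹)⁻¹)) := by rw [hgt l]
            _ = _ := by group
      refine ⟨((⟨a, ha⟩ : ↥Mj) : Q), Subtype.ext ?_⟩
      show Ψ ((((⟨a, ha⟩ : ↥Mj) : Q)).out : G) = w
      set c := ((⟨a, ha⟩ : ↥Mj) : Q).out with hc'
      have hmem : (a⁻¹ * (c : G)) ∈ Mt := by
        have h : ((⟨a, ha⟩ : ↥Mj)⁻¹ * c) ∈ Mt.subgroupOf Mj :=
          QuotientGroup.eq.1 (by rw [hc']; exact (QuotientGroup.out_eq' _).symm)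
        exact h
      rw [hMt] at hmem
      obtain ⟨-, -, v, hv, ev⟩ := hmem
      rw [← hΨa]
      have e : (c : G) * t * (c : G)⁻¹ = a * t * a⁻¹ * (a * v * a⁻¹) := by
        calc (c : G) * t * (c : G)⁻¹ = a * (a⁻¹ * c * t * (a⁻¹ * (c : G))⁻¹) * a⁻¹ := by group
          _ = _ := by rw [ev]; group
      show t * ((c : G) * t * (c : G)⁻¹) * (t * ((c : G) * t * (c : G)⁻¹)) = _
      rw [e]
      exact hz a ha.1 _ (conj_centInv (hMN ha.1) hv)
  have h2 : Nat.card Q = 2 ^ d.n := by rw [Nat.card_eq_of_bijective f hbij, card_centInv d hN]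
  have hoddQ : Odd (Nat.card Q) := by
    refine hodd.of_dvd_nat (dvd_trans ?_ (card_dvd_of_le (fun a ha => ha.1 : Mj ≤ M)))
    exact ⟨_, Subgroup.card_eq_card_quotient_mul_card_subgroup _⟩
  rw [h2] at hoddQ
  exact Nat.not_even_iff_odd.2 hoddQ
    ((Nat.even_pow' (by have := d.data.two_le; omega)).2 even_two)

end Cfsg.Agent.CyclicSylowInter.Noncentral
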