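import Cfsg.Agent.Lib.CyclicSylowInter.Noncentral.Layer
import Cfsg.Agent.Lib.Coprime.Action

/-!
# The noncentral branch: the torus on the central involutions and translate families
-/

set_option autoImplicit false
set_option linter.style.haveILetI false
set_option linter.unusedSectionVars false

namespace Cfsg.Agent.CyclicSylowInter.Noncentral

open Subgroup
open scoped Pointwise
open Cfsg.Agent.ZStar.CyclicIntersections

universe u

attribute [local instance] Comp.grp Comp.fin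

variable {G : Type u} [Group G] [Finite G] {S : Sylow 2 G} {t : G}

/-- The elements of `N(S)` fixing the translate family of `u`. -/
def famStab (S : Sylow 2 G) (u : G) : Subgroup G where
  carrier := {a | a ∈ normalizer ((S : Subgroup G) : Set G) ∧
    ∃ w ∈ centInv S, a * u * a⁻¹ = u * w}
  one_mem' := ⟨one_mem _, 1, one_mem _, by simp⟩
  mul_mem' := by
    rintro a b ⟨ha, w, hw, ea⟩ ⟨hb, z, hz, eb⟩
    refine ⟨mul_mem ha hb, w * (a * z * a⁻¹), mul_mem hw (conj_centInv ha hz), ?_⟩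
    rw [show a * b * u * (a * b)⁻¹ = a * (b * u * b⁻¹) * a⁻¹ by group, eb,
      show a * (u * z) * a⁻¹ = a * u * a⁻¹ * (a * z * a⁻¹) by group, ea, mul_assoc]
  inv_mem' := by
    rintro a ⟨ha, w, hw, e⟩
    have h := conj_centInv (inv_mem ha) (inv_mem hw)
    refine ⟨inv_mem ha, _, h, ?_⟩
    calc a⁻¹ * u * a⁻¹⁻¹ = a⁻¹ * (a * u * a⁻¹ * w⁻¹) * a := by
          rw [e, mul_assoc u w, mul_inv_cancel, mul_one, inv_inv]
      _ = _ := by group

/-- A subgroup of odd order fixing a family fixes an element of it. -/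
theorem exists_fixed (H : Subgroup G) (hodd : Odd (Nat.card H)) {u : G}
    (hH : H ≤ famStab S u) : ∃ w ∈ centInv S, ∀ a ∈ H, Commute a (u * w) := by
  obtain ⟨b, hb⟩ := IsPGroup.iff_card.1 (show IsPGroup 2 ↥(centInv S) from fun x =>
    ⟨1, Subtype.ext (by rw [SubgroupClass.coe_pow, pow_one, pow_two]; exact x.2.2.1)⟩)
  obtain ⟨w, hw, hfix⟩ := Coprime.exists_fixed_in_coset (A := H) (N := centInv S) (k := u)
    (Subgroup.le_normalizer_iff.2 fun a ha z hz => conj_centInv (hH ha).1 hz)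
    (by rw [hb]; exact (Nat.coprime_two_right.2 hodd).pow_right b)
    (Or.inl (S0205.result hodd)) fun a ha => by
      obtain ⟨w, hw, e⟩ := (hH ha).2
      rw [e, inv_mul_cancel_left]; exact hw
  exact ⟨w, hw, fun a ha => mem_centralizer_iff.1 hfix a ha⟩

/-- A complement to `S` in its normalizer through a given element of odd order. -/
theorem exists_complement_through {g : G} (hg : g ∈ normalizer ((S : Subgroup G) : Set G))
    (ho : Odd (orderOf g)) : ∃ A : Subgroup G, A ≤ normalizer ((S : Subgroup G) : Set G) ∧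
      Odd (Nat.card A) ∧ normalizer ((S : Subgroup G) : Set G) ≤ (S : Subgroup G) ⊔ A ∧ g ∈ A := by
  haveI := Fact.mk Nat.prime_two
  obtain ⟨R, hRN, hRodd, hle⟩ := exists_complement S
  have hgN : zpowers g ≤ normalizer ((S : Subgroup G) : Set G) := zpowers_le.2 hg
  obtain ⟨b, hb⟩ := IsPGroup.iff_card.1 S.isPGroup'
  have hcop : (Nat.card ↥(zpowers g)).Coprime (Nat.card ↥(S : Subgroup G)) := by
    rw [Nat.card_zpowers, hb]; exact (Nat.coprime_two_right.2 ho).pow_right b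
  have hM : (S : Subgroup G) ⊔ (R ⊓ ((S : Subgroup G) ⊔ zpowers g)) =
      (S : Subgroup G) ⊔ zpowers g := by
    refine le_antisymm (sup_le le_sup_left inf_le_right) fun x hx => ?_
    obtain ⟨s, hs, r, hr, rfl⟩ := (Coprime.mem_sup_of_le_normalizer hRN).1
      (hle ((sup_le le_normalizer hgN) hx))
    refine mul_mem_sup hs ⟨hr, ?_⟩
    have := mul_mem (inv_mem (mem_sup_left hs : s ∈ (S : Subgroup G) ⊔ zpowers g)) hx
    rwa [inv_mul_cancel_left] at this
  obtain ⟨s, hs, hsle⟩ := Coprime.exists_le_conj_smul hgN hcop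
    (Or.inl (Coprime.isSolvable_of_isMulCommutative _)) hM
  have hmono : MulAut.conj s • (R ⊓ ((S : Subgroup G) ⊔ zpowers g)) ≤ MulAut.conj s • R :=
    Subgroup.pointwise_smul_le_pointwise_smul_iff.2 inf_le_left
  refine ⟨MulAut.conj s • R, ?_, by rw [Coprime.card_conj_smul]; exact hRodd, ?_,
    hmono (hsle (mem_zpowers g))⟩
  · intro x hx
    rw [Coprime.mem_conj_smul] at hx
    have h := mul_mem (mul_mem (le_normalizer hs) (hRN hx)) (inv_mem (le_normalizer hs))
    simpa [mul_assoc] using h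
  · intro n hn
    have hsN := le_normalizer hs
    obtain ⟨x, hx, r, hr, e⟩ := (Coprime.mem_sup_of_le_normalizer hRN).1
      (hle (mul_mem (mul_mem (inv_mem hsN) hn) hsN))
    rw [show n = (s * x * s⁻¹) * (s * r * s⁻¹) by
      rw [show s * x * s⁻¹ * (s * r * s⁻¹) = s * (x * r) * s⁻¹ by group, e]; group]
    exact mul_mem_sup (mul_mem (mul_mem hs hx) (inv_mem hs)) (Coprime.conj_mem_conj_smul hr)

variable (d : Comp S t) (hN : Hyp G) {g : G} {τ : ↥d.L}

/-- The torus element `g` over `τ`. -/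
structure Torus (g : G) (τ : ↥d.L) : Prop where
  mem : g ∈ cen t
  norm : g ∈ normalizer ((S : Subgroup G) : Set G)
  odd : Odd (orderOf g)
  pr_eq : pr d g = (τ : d.Q)
  trans : ∀ z ∈ centInv S, ∀ w ∈ centInv S, z ≠ 1 → w ≠ 1 →
    ∃ j : ℕ, g ^ j * z * (g ^ j)⁻¹ = w
  three : d.i = 3 → (∃ j : ℕ, τ ^ j ≠ 1 ∧
      ∀ x ∈ (d.SL : Subgroup ↥d.L), orderOf x = 2 → Commute (τ ^ j) x) ∧
    (∀ j : ℕ, τ ^ j ≠ 1 → (∀ x ∈ (d.SL : Subgroup ↥d.L), orderOf x = 2 → Commute (τ ^ j) x) →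
      ∀ x ∈ (d.SL : Subgroup ↥d.L), Commute (τ ^ j) x → x * x = 1)

include hN

theorem exists_Torus : ∃ (g : G) (τ : ↥d.L), Torus d g τ := by
  obtain ⟨g, hg, hgN, hgo, τ, h1, h2, e⟩ := exists_torus d hN
  refine ⟨g, τ, hg, hgN, hgo, e, fun z hz w hw hz1 hw1 => ?_,
    fun hi => ⟨(h2 hi).2.1, (h2 hi).2.2⟩⟩
  have hzc := centInv_le d hN hz
  have hwc := centInv_le d hN hw
  obtain ⟨a, ha, hae⟩ := exists_SL d (pr_mem d hzc)
  obtain ⟨b, hb, hbe⟩ := exists_SL d (pr_mem d hwc)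
  have ho : ∀ (v : G) (a : ↥d.L), v ∈ centInv S → v ≠ 1 → (a : d.Q) = pr d v → orderOf a = 2 := by
    intro v a hv hv1 e
    refine Involutions.Basic.orderOf_two_iff.2 ⟨Subtype.ext ?_,
      fun h => pr_ne_one d hN hv hv1 ?_⟩
    · show (a : d.Q) * a = 1
      rw [e, ← pr_mul d (centInv_le d hN hv).2 (centInv_le d hN hv).2, hv.2.1, pr_one]
    · rw [← e, h]; rfl
  obtain ⟨j, hj⟩ := h1 a b ha hb (ho z a hz hz1 hae) (ho w b hw hw1 hbe)
  refine ⟨j, pr_injOn d hN (conj_centInv (pow_mem hgN j) hz) hw ?_⟩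
  rw [pr_conj d (pow_mem hg j) hzc.2, pr_pow d hg, e, ← hae, ← hbe, ← hj]
  simp

variable {d} (T : Torus d g τ)
include T

theorem Torus.fix_all {j : ℕ} {z : G} (hz : z ∈ centInv S) (h1 : z ≠ 1) (hc : Commute (g ^ j) z)
    {w : G} (hw : w ∈ centInv S) : Commute (g ^ j) w := by
  by_cases hw1 : w = 1
  · rw [hw1]; exact Commute.one_right _
  obtain ⟨l, rfl⟩ := T.trans z hz w hw h1 hw1
  exact ((Commute.pow_pow (Commute.refl g) j l).mul_right hc).mul_right
    (Commute.pow_pow (Commute.refl g) j l).inv_right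

theorem Torus.period {j : ℕ} (hj : 0 < j) (hc : ∀ w ∈ centInv S, Commute (g ^ j) w) :
    2 ^ d.n - 1 ≤ j := by
  classical
  obtain ⟨z, hz, hz1⟩ := hN.exists_centInv S
  have hsub : (centInv S : Set G) \ {1} ⊆
      (fun l => g ^ l * z * (g ^ l)⁻¹) '' ↑(Finset.range j) := by
    rintro w ⟨hw, hw1⟩
    obtain ⟨l, hl⟩ := T.trans z hz w hw hz1 hw1
    refine ⟨l % j, by simpa using Nat.mod_lt l hj, ?_⟩
    rw [← hl]
    have hcz : Commute ((g ^ j) ^ (l / j)) z := (hc z hz).pow_left _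
    conv_rhs => rw [← Nat.mod_add_div l j, pow_add, pow_mul, mul_inv_rev]
    show g ^ (l % j) * z * (g ^ (l % j))⁻¹ = _
    rw [show g ^ (l % j) * (g ^ j) ^ (l / j) * z * (((g ^ j) ^ (l / j))⁻¹ * (g ^ (l % j))⁻¹) =
      g ^ (l % j) * ((g ^ j) ^ (l / j) * z * ((g ^ j) ^ (l / j))⁻¹) * (g ^ (l % j))⁻¹ by group,
      hcz.eq, mul_inv_cancel_right]
  have h := (Set.ncard_le_ncard hsub).trans (Set.ncard_image_le)
  rwa [Set.ncard_sdiff_singleton_of_mem (one_mem (centInv S)), Set.ncard_coe_finset,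
    Finset.card_range, ← Nat.card_coe_set_eq, SetLike.coe_sort_coe, card_centInv d hN] at h

/-- For `i = 3` the torus element has order at least `3(q - 1)`. -/
theorem Torus.three_le (hi : d.i = 3) : 3 * (2 ^ d.n - 1) ≤ orderOf τ := by
  obtain ⟨j, hj, hjc⟩ := (T.three hi).1
  have hτodd : Odd (orderOf τ) := T.odd.of_dvd_nat (orderOf_dvd_of_pow_eq_one (by
    apply Subtype.ext
    rw [SubgroupClass.coe_pow, OneMemClass.coe_one, ← T.pr_eq, ← pr_pow d T.mem,
      pow_orderOf_eq_one, pr_one]))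
  set o := orderOf τ with ho
  -- powers acting trivially on the central involutions
  have hW : ∀ l : ℕ, (∀ x ∈ (d.SL : Subgroup ↥d.L), orderOf x = 2 → Commute (τ ^ l) x) →
      ∀ w ∈ centInv S, g ^ l ∈ centralizer ({w} : Set G) := by
    intro l hl w hw
    rw [mem_centralizer_singleton_iff]
    by_cases hw1 : w = 1
    · subst hw1; simp
    have hwc := centInv_le d hN hw
    obtain ⟨a, ha, hae⟩ := exists_SL d (pr_mem d hwc)
    have hao : orderOf a = 2 := Involutions.Basic.orderOf_two_iff.2 ⟨Subtype.ext (by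
      show (a : d.Q) * a = 1
      rw [hae, ← pr_mul d hwc.2 hwc.2, hw.2.1, pr_one]),
      fun e => pr_ne_one d hN hw hw1 (by rw [← hae, e]; rfl)⟩
    have h2 : pr d (g ^ l) * pr d w = pr d w * pr d (g ^ l) := by
      rw [pr_pow d T.mem, T.pr_eq, ← hae, ← SubgroupClass.coe_pow]
      exact congrArg Subtype.val (hl a ha hao).eq
    have h3 : pr d (g ^ l * w * (g ^ l)⁻¹) = pr d w := by
      rw [pr_conj d (pow_mem T.mem l) hwc.2, h2, mul_inv_cancel_right]
    exact mul_inv_eq_iff_eq_mul.1 (pr_injOn d hN (conj_centInv (pow_mem T.norm l) hw) hw h3)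
  have hgcd : ∀ w ∈ centInv S, Commute (g ^ Nat.gcd j o) w := by
    intro w hw
    refine (mem_centralizer_singleton_iff.1 ?_ : g ^ Nat.gcd j o * w = w * g ^ Nat.gcd j o)
    have hgz : g ^ ((Nat.gcd j o : ℕ) : ℤ) ∈ centralizer ({w} : Set G) := by
      rw [Nat.gcd_eq_gcd_ab, zpow_add, zpow_mul, zpow_mul, zpow_natCast, zpow_natCast]
      exact mul_mem (zpow_mem (hW j hjc w hw) _) (zpow_mem (hW o (fun x _ _ => by
        rw [ho, pow_orderOf_eq_one]; exact Commute.one_left x) w hw) _)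
    rwa [zpow_natCast] at hgz
  have hpos : 0 < o := orderOf_pos τ
  have h1 := T.period hN (Nat.gcd_pos_of_pos_right j hpos) hgcd
  obtain ⟨e, he⟩ := Nat.gcd_dvd_right j o
  have hne : e ≠ 1 := fun e1 => hj (orderOf_dvd_iff_pow_eq_one.1 (by
    rw [e1, mul_one] at he
    exact (dvd_of_eq he).trans (Nat.gcd_dvd_left j o)))
  have heodd : Odd e := hτodd.of_dvd_nat ⟨_, by rw [he, mul_comm]⟩
  obtain ⟨k, hk⟩ := heodd
  rw [he]
  calc 3 * (2 ^ d.n - 1) ≤ 3 * Nat.gcd j o := Nat.mul_le_mul_left _ h1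
    _ ≤ e * Nat.gcd j o := Nat.mul_le_mul_right _ (by omega)
    _ = _ := mul_comm _ _

end Cfsg.Agent.CyclicSylowInter.Noncentral
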